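import Cfsg.Agent.Lib.TwoTransA4.Alt4
import Mathlib.GroupTheory.SpecificGroups.Alternating
import Mathlib.GroupTheory.Perm.Fin

/-!
# Pair stabilisers of type `A₅`
-/

set_option autoImplicit false
set_option linter.unusedSectionVars false

namespace Cfsg.Agent.Lib.TwoTransA5

open MulAction
open Cfsg.Agent.Lib.ConstFix25 (fx two_apply orderOf_conj mul_self_of_orderOf ne_one_of_orderOf)
open Cfsg.Agent.Lib.TwoTransA4 (Base InvH orderOf_eq_two inv_eq_self pairNum swapNum conj_smul_smul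
  exists_two_fixed)

/-! ### Facts on `A₅` -/

namespace AFive

abbrev A5 := ↥(alternatingGroup (Fin 5))

theorem card_all : Fintype.card A5 = 60 := by decide +kernel

theorem card_invol : Fintype.card {x : A5 // x * x = 1 ∧ x ≠ 1} = 15 := by decide +kernel

theorem conj : ∀ x : A5, x * x = 1 → x ≠ 1 → ∀ y : A5, y * y = 1 → y ≠ 1 →
    ∃ g, g * x * g⁻¹ = y := by
  decide +kernel

theorem cent_card : ∀ x : A5, x * x = 1 → x ≠ 1 →
    Fintype.card {g : A5 // g * x = x * g} = 4 := by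
  decide +kernel

theorem cent_sq : ∀ x : A5, x * x = 1 → x ≠ 1 → ∀ g : A5, g * x = x * g → g * g = 1 := by
  decide +kernel

theorem other : ∀ x : A5, x * x = 1 → x ≠ 1 →
    ∃ y : A5, y * y = 1 ∧ y ≠ 1 ∧ y ≠ x ∧ y * x = x * y := by
  decide +kernel

theorem four {x y v : A5} (hx : x * x = 1) (hx1 : x ≠ 1) (hy1 : y ≠ 1) (hxy : x ≠ y)
    (hy : y * x = x * y) (hv : v * x = x * v) : v = 1 ∨ v = x ∨ v = y ∨ v = x * y := by
  classical
  let S : Finset A5 := {1, x, y, x * y}
  have h1 : x * y ≠ x := fun e => hy1 (mul_eq_left.1 e)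
  have h2 : x * y ≠ y := fun e => hx1 (mul_eq_right.1 e)
  have h3 : x * y ≠ 1 := fun e => hxy (by
    rw [eq_inv_of_mul_eq_one_right e, inv_eq_of_mul_eq_one_right hx])
  have hS : S.card = 4 := by
    simp only [S]
    rw [Finset.card_insert_of_notMem, Finset.card_insert_of_notMem, Finset.card_pair h2.symm]
    · simp [hxy, h1.symm]
    · simp [hx1.symm, hy1.symm, h3.symm]
  have hsub : S = Finset.univ.filter fun g : A5 => g * x = x * g := by
    refine Finset.eq_of_subset_of_card_le ?_ ?_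
    · intro g hg
      simp only [S, Finset.mem_insert, Finset.mem_singleton] at hg
      rw [Finset.mem_filter]
      refine ⟨Finset.mem_univ g, ?_⟩
      rcases hg with rfl | rfl | rfl | rfl
      · rw [one_mul, mul_one]
      · rfl
      · exact hy
      · rw [mul_assoc, hy]
    · rw [hS, ← Fintype.card_subtype, cent_card x hx hx1]
  have h : v ∈ S := by
    rw [hsub, Finset.mem_filter]
    exact ⟨Finset.mem_univ v, hv⟩
  simpa [S] using h

end AFive

variable {G Ω : Type*} [Group G] [MulAction G Ω]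

/-- The hypotheses of the row, with faithfulness. -/
structure Data (G Ω : Type*) [Group G] [MulAction G Ω] (a b : Ω) : Prop where
  faithful : FaithfulSMul G Ω
  two : IsMultiplyPretransitive G Ω 2
  ne : a ≠ b
  alt : Nonempty (↥(stabilizer G a ⊓ stabilizer G b) ≃* ↥(alternatingGroup (Fin 5)))

/-- Two commuting involutions of the pair stabiliser: generators of a four group. -/
structure Four (a b : Ω) (t s : G) : Prop where
  t_inv : InvH a b t
  s_inv : InvH a b s
  ne : s ≠ t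
  comm : Commute s t

namespace Data

variable {a b : Ω} (D : Data G Ω a b)
include D

theorem card_H : Nat.card ↥(stabilizer G a ⊓ stabilizer G b) = 60 := by
  obtain ⟨e⟩ := D.alt
  rw [Nat.card_congr e.toEquiv, Nat.card_eq_fintype_card]
  exact AFive.card_all

theorem mem {g : G} (ha : g • a = a) (hb : g • b = b) : g ∈ stabilizer G a ⊓ stabilizer G b :=
  ⟨ha, hb⟩

theorem sq_one_of_commute {x g : G} (hx : InvH a b x) (hga : g • a = a) (hgb : g • b = b)
    (hc : Commute g x) : g * g = 1 := by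
  obtain ⟨e⟩ := D.alt
  have h := AFive.cent_sq (e ⟨x, D.mem hx.2.2.1 hx.2.2.2⟩)
    (by rw [← map_mul, ← map_one e]; exact congrArg e (Subtype.ext hx.1))
    (fun h => hx.2.1 (congrArg Subtype.val (e.injective (h.trans (map_one e).symm))))
    (e ⟨g, D.mem hga hgb⟩)
    (by rw [← map_mul, ← map_mul]; exact congrArg e (Subtype.ext hc.eq))
  rw [← map_mul, ← map_one e] at h
  exact congrArg Subtype.val (e.injective h)

theorem conj {x y : G} (hx : InvH a b x) (hy : InvH a b y) :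
    ∃ g : G, g • a = a ∧ g • b = b ∧ g * x * g⁻¹ = y := by
  obtain ⟨e⟩ := D.alt
  obtain ⟨g, hg⟩ := AFive.conj (e ⟨x, D.mem hx.2.2.1 hx.2.2.2⟩)
    (by rw [← map_mul, ← map_one e]; exact congrArg e (Subtype.ext hx.1))
    (fun h => hx.2.1 (congrArg Subtype.val (e.injective (h.trans (map_one e).symm))))
    (e ⟨y, D.mem hy.2.2.1 hy.2.2.2⟩)
    (by rw [← map_mul, ← map_one e]; exact congrArg e (Subtype.ext hy.1))
    (fun h => hy.2.1 (congrArg Subtype.val (e.injective (h.trans (map_one e).symm))))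
  obtain ⟨k, rfl⟩ := e.surjective g
  rw [← map_inv, ← map_mul, ← map_mul] at hg
  exact ⟨k.1, k.2.1, k.2.2, congrArg Subtype.val (e.injective hg)⟩

theorem exists_invol : ∃ t : G, InvH a b t := by
  obtain ⟨e⟩ := D.alt
  obtain ⟨x, hx, hx1⟩ : ∃ x : AFive.A5, x * x = 1 ∧ x ≠ 1 := by
    obtain ⟨⟨x, hx⟩⟩ := Fintype.card_pos_iff.1 (by rw [AFive.card_invol]; norm_num :
      0 < Fintype.card {x : AFive.A5 // x * x = 1 ∧ x ≠ 1})
    exact ⟨x, hx⟩
  obtain ⟨k, rfl⟩ := e.surjective x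
  rw [← map_mul, ← map_one e] at hx
  exact ⟨k.1, congrArg Subtype.val (e.injective hx),
    fun h => hx1 (by rw [show k = 1 from Subtype.ext h, map_one]), k.2.1, k.2.2⟩

theorem exists_four {t : G} (ht : InvH a b t) : ∃ s : G, Four a b t s := by
  obtain ⟨e⟩ := D.alt
  obtain ⟨y, hy, hy1, hyx, hc⟩ := AFive.other (e ⟨t, D.mem ht.2.2.1 ht.2.2.2⟩)
    (by rw [← map_mul, ← map_one e]; exact congrArg e (Subtype.ext ht.1))
    (fun h => ht.2.1 (congrArg Subtype.val (e.injective (h.trans (map_one e).symm))))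
  obtain ⟨k, rfl⟩ := e.surjective y
  rw [← map_mul, ← map_one e] at hy
  rw [← map_mul, ← map_mul] at hc
  exact ⟨k.1, ht, ⟨congrArg Subtype.val (e.injective hy),
    fun h => hy1 (by rw [show k = 1 from Subtype.ext h, map_one]), k.2.1, k.2.2⟩,
    fun h => hyx (congrArg e (Subtype.ext h)), congrArg Subtype.val (e.injective hc)⟩

theorem four {t s v : G} (F : Four a b t s) (hva : v • a = a) (hvb : v • b = b)
    (hv : Commute v t) : v = 1 ∨ v = t ∨ v = s ∨ v = s * t := by
  obtain ⟨e⟩ := D.alt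
  have h := AFive.four (x := e ⟨t, D.mem F.t_inv.2.2.1 F.t_inv.2.2.2⟩)
    (y := e ⟨s, D.mem F.s_inv.2.2.1 F.s_inv.2.2.2⟩) (v := e ⟨v, D.mem hva hvb⟩)
    (by rw [← map_mul, ← map_one e]; exact congrArg e (Subtype.ext F.t_inv.1))
    (fun h => F.t_inv.2.1 (congrArg Subtype.val (e.injective (h.trans (map_one e).symm))))
    (fun h => F.s_inv.2.1 (congrArg Subtype.val (e.injective (h.trans (map_one e).symm))))
    (fun h => F.ne (congrArg Subtype.val (e.injective h)).symm)
    (by rw [← map_mul, ← map_mul]; exact congrArg e (Subtype.ext F.comm.eq))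
    (by rw [← map_mul, ← map_mul]; exact congrArg e (Subtype.ext hv.eq))
  rw [← map_one e, ← map_mul] at h
  rcases h with h | h | h | h
  · exact Or.inl (congrArg Subtype.val (e.injective h))
  · exact Or.inr (Or.inl (congrArg Subtype.val (e.injective h)))
  · exact Or.inr (Or.inr (Or.inl (congrArg Subtype.val (e.injective h))))
  · refine Or.inr (Or.inr (Or.inr ?_))
    rw [show v = t * s from congrArg Subtype.val (e.injective h), F.comm.eq]

theorem mul_invH {t s : G} (F : Four a b t s) : InvH a b (s * t) := by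
  refine ⟨?_, fun h => F.ne ?_, by rw [mul_smul, F.t_inv.2.2.1, F.s_inv.2.2.1],
    by rw [mul_smul, F.t_inv.2.2.2, F.s_inv.2.2.2]⟩
  · calc s * t * (s * t) = s * (t * s) * t := by group
      _ = 1 := by rw [← F.comm.eq, ← mul_assoc, F.s_inv.1, one_mul, F.t_inv.1]
  · rw [eq_inv_of_mul_eq_one_left h, inv_eq_self F.t_inv.1]

theorem base {t : G} (ht : InvH a b t) : Base G Ω a b t :=
  ⟨D.faithful, D.two, D.ne, ht.orderOf, ht.2.2.1, ht.2.2.2, fun _ hu hua hub =>
    D.conj ht ⟨mul_self_of_orderOf hu, ne_one_of_orderOf hu, hua, hub⟩⟩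

theorem pairNum_eq : pairNum G a b = 15 := by
  obtain ⟨e⟩ := D.alt
  rw [pairNum, ← AFive.card_invol, ← Nat.card_eq_fintype_card]
  refine Nat.card_congr ((Equiv.subtypeEquivRight (q := fun u : G =>
      (u ∈ stabilizer G a ⊓ stabilizer G b) ∧ u * u = 1 ∧ u ≠ 1) fun u =>
    ⟨fun h => ⟨D.mem h.2.1 h.2.2, mul_self_of_orderOf h.1, ne_one_of_orderOf h.1⟩,
      fun h => ⟨orderOf_eq_two h.2.1 h.2.2, h.1.1, h.1.2⟩⟩).trans
    ((Equiv.subtypeSubtypeEquivSubtypeInter (fun u => u ∈ stabilizer G a ⊓ stabilizer G b)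
      (fun u => u * u = 1 ∧ u ≠ 1)).symm.trans (e.toEquiv.subtypeEquiv fun x => ?_)))
  show (x : G) * x = 1 ∧ (x : G) ≠ 1 ↔ e x * e x = 1 ∧ e x ≠ 1
  rw [← map_mul, EmbeddingLike.map_eq_one_iff, ne_eq, ne_eq, EmbeddingLike.map_eq_one_iff,
    ← Subgroup.coe_mul, OneMemClass.coe_eq_one, OneMemClass.coe_eq_one]

/-- The same hypotheses at another pair. -/
theorem of_pair {c d : Ω} (hcd : c ≠ d) : Data G Ω c d := by
  obtain ⟨g, hga, hgb⟩ := two_apply D.two D.ne hcd
  obtain ⟨e⟩ := D.alt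
  refine ⟨D.faithful, D.two, hcd, ⟨MulEquiv.trans ?_ e⟩⟩
  refine ((MulEquiv.subgroupMap (MulAut.conj g⁻¹) _).trans (MulEquiv.subgroupCongr ?_))
  ext x
  constructor
  · rintro ⟨y, ⟨hyc, hyd⟩, rfl⟩
    have hyc' : y • c = c := hyc
    have hyd' : y • d = d := hyd
    show (g⁻¹ * y * g⁻¹⁻¹) • a = a ∧ (g⁻¹ * y * g⁻¹⁻¹) • b = b
    rw [inv_inv, mul_smul, mul_smul, hga, hyc', ← hga, inv_smul_smul, mul_smul, mul_smul, hgb, hyd',
      ← hgb, inv_smul_smul]
    exact ⟨rfl, rfl⟩
  · rintro ⟨hxa, hxb⟩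
    have hxa' : x • a = a := hxa
    have hxb' : x • b = b := hxb
    refine ⟨g * x * g⁻¹, ⟨?_, ?_⟩, ?_⟩
    · show (g * x * g⁻¹) • c = c
      rw [← hga, conj_smul_smul, hxa']
    · show (g * x * g⁻¹) • d = d
      rw [← hgb, conj_smul_smul, hxb']
    · show g⁻¹ * (g * x * g⁻¹) * g⁻¹⁻¹ = x
      group

theorem exists_data_of_class [Finite Ω] {t u : G} (ht : InvH a b t) (hu : IsConj t u) :
    ∃ c d : Ω, Data G Ω c d ∧ InvH c d u := by
  obtain ⟨h2, hfix⟩ := (D.base ht).mem_class_iff.1 hu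
  obtain ⟨c, d, hcd, hc, hd⟩ := exists_two_fixed hfix
  exact ⟨c, d, D.of_pair hcd, mul_self_of_orderOf h2, ne_one_of_orderOf h2, hc, hd⟩

theorem card_cent [Finite G] [Finite Ω] {t : G} (ht : InvH a b t) :
    Nat.card ↥(Subgroup.centralizer ({t} : Set G)) = 4 * (fx Ω t * (fx Ω t - 1)) := by
  have h := (D.base ht).card_cent
  rw [D.pairNum_eq, D.card_H] at h
  omega

theorem fixity [Finite G] [Finite Ω] {t : G} (ht : InvH a b t) :
    15 * (Nat.card Ω - fx Ω t) = swapNum a b t * (fx Ω t * (fx Ω t - 1)) := by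
  have h := (D.base ht).fixity
  rwa [D.pairNum_eq] at h

theorem card_group [Finite G] [Finite Ω] :
    Nat.card G = 60 * (Nat.card Ω * (Nat.card Ω - 1)) := by
  rw [Cfsg.Agent.Lib.ConstFix25.card_group D.two D.ne,
    Cfsg.Agent.Lib.ConstFix25.card_offDiag, D.card_H]
  ring

end Data

end Cfsg.Agent.Lib.TwoTransA5
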