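import Cfsg.Agent.Lib.TwoTransA5.Swap
import Cfsg.Agent.Lib.TwoTransA4.Cases

/-!
# The number of class members swapping a pair: one, ten, fifteen or sixteen
-/

set_option autoImplicit false
set_option linter.unusedSectionVars false

namespace Cfsg.Agent.Lib.TwoTransA5

open MulAction
open Cfsg.Agent.Lib.ConstFix25 (fx two_apply mul_self_of_orderOf ne_one_of_orderOf orderOf_of_isConj)
open Cfsg.Agent.Lib.TwoTransA4 (Base InvH Sw orderOf_eq_two inv_eq_self pairNum swapNum fix_of_subset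
  conj_smul_smul)

variable {G Ω : Type*} [Group G] [MulAction G Ω]

/-- Commuting involutions of the pair stabiliser have the same fixed points. -/
def Lin (G : Type*) [Group G] [MulAction G Ω] (a b : Ω) : Prop :=
  ∀ u v : G, InvH a b u → InvH a b v → Commute v u → ∀ x : Ω, u • x = x → v • x = x

/-- Shared consequences of the case `S₅`. -/
structure SwapFacts (G : Type*) [Group G] [MulAction G Ω] (a b : Ω) : Prop where
  exists_sw : ∀ t s : G, Four a b t s → ∃ τ : G, Sw a b τ ∧ Commute τ t ∧ τ * s * τ⁻¹ = s * t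
  conj : ∀ u v : G, Sw a b u → Sw a b v → IsConj u v
  card : Nat.card {u : G // Sw a b u} = 10
  sq : ∀ t g : G, InvH a b t → g • a = b → g • b = a → Commute g t → g * g = 1 ∨ g * g = t
  not_comm : ∀ t s g : G, Four a b t s → g • a = b → g • b = a → Commute g t → ¬ Commute g s

namespace Data

variable {a b : Ω} (D : Data G Ω a b)
include D

theorem conj_invH {u v : G} (hu : InvH a b u) (hv : InvH a b v) : IsConj u v := by
  obtain ⟨g, -, -, hg⟩ := D.conj hu hv
  exact isConj_iff.2 ⟨g, hg⟩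

theorem fx_invH {u v : G} (hu : InvH a b u) (hv : InvH a b v) : fx Ω v = fx Ω u :=
  (D.base hu).fx_class (D.conj_invH hu hv)

/-- One coincidence of fixed point sets in a four group gives all of them. -/
theorem lin_of_subset [Finite Ω] {t s : G} (F : Four a b t s)
    (h : ∀ x : Ω, t • x = x → s • x = x) : Lin G a b := by
  intro u v hu hv hvu x hx
  obtain ⟨g, hga, hgb, rfl⟩ := D.conj F.t_inv hu
  have hia : g⁻¹ • a = a := by rw [inv_smul_eq_iff, hga]
  have hib : g⁻¹ • b = b := by rw [inv_smul_eq_iff, hgb]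
  have hc : Commute (g⁻¹ * v * g) t := by
    show g⁻¹ * v * g * t = t * (g⁻¹ * v * g)
    calc g⁻¹ * v * g * t = g⁻¹ * (v * (g * t * g⁻¹)) * g := by group
      _ = t * (g⁻¹ * v * g) := by rw [hvu.eq]; group
  have hy : t • g⁻¹ • x = g⁻¹ • x := by
    rw [eq_inv_smul_iff, ← mul_smul, ← mul_smul]
    exact hx
  have hy' : (g⁻¹ * v * g) • g⁻¹ • x = g⁻¹ • x := by
    rcases D.four F (v := g⁻¹ * v * g) (by rw [mul_smul, mul_smul, hga, hv.2.2.1, hia])
      (by rw [mul_smul, mul_smul, hgb, hv.2.2.2, hib]) hc with e | e | e | e <;> rw [e]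
    · exact one_smul G _
    · exact hy
    · exact h _ hy
    · rw [mul_smul, hy, h _ hy]
  rwa [mul_smul, mul_smul, smul_inv_smul, smul_left_cancel_iff] at hy'

theorem exists_moved_of_not_lin [Finite Ω] (hL : ¬ Lin G a b) {t s : G} (F : Four a b t s) :
    ∃ x : Ω, t • x = x ∧ s • x ≠ x := by
  by_contra! h
  exact hL (D.lin_of_subset F h)

theorem swap_sub {t u : G} (ht : InvH a b t) (h : IsConj t u ∧ u • a = b) : Sw a b u :=
  ⟨mul_self_of_orderOf ((D.base ht).orderOf_class h.1), h.2⟩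

theorem all_conj [Finite G] {t : G} (ht : InvH a b t)
    (hall : ∀ w : G, Sw a b w → IsConj t w) (u : G) (hu : orderOf u = 2) : IsConj t u := by
  obtain ⟨w, huw, hwa, -⟩ := (D.base ht).exists_swap_conj hu
  refine (hall w ⟨?_, hwa⟩).trans huw.symm
  exact mul_self_of_orderOf ((orderOf_of_isConj huw).trans hu)

theorem caseA_mul {j : G} (hj : CaseA a b j) {u : G} (hua : u • a = b) (hub : u • b = a) :
    (j * u) • a = a ∧ (j * u) • b = b ∧ u = j * (j * u) ∧ u * u = (j * u) * (j * u) := by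
  have hka : (j * u) • a = a := by rw [mul_smul, hua, hj.1.swap]
  have hkb : (j * u) • b = b := by rw [mul_smul, hub, hj.1.2]
  have e : u = j * (j * u) := by rw [← mul_assoc, hj.1.1, one_mul]
  refine ⟨hka, hkb, e, ?_⟩
  have hc := (hj.2 _ hka hkb).eq
  calc u * u = j * (j * u) * (j * (j * u)) := by rw [← e]
    _ = j * ((j * u) * j) * (j * u) := by group
    _ = (j * u) * (j * u) := by rw [← hc, ← mul_assoc j j (j * u), hj.1.1, one_mul]

theorem caseA_swap {j : G} (hj : CaseA a b j) {u : G} (hu : Sw a b u) :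
    ∃ k : G, k • a = a ∧ k • b = b ∧ k * k = 1 ∧ u = j * k := by
  obtain ⟨h1, h2, h3, h4⟩ := D.caseA_mul hj hu.2 hu.swap
  exact ⟨j * u, h1, h2, h4 ▸ hu.1, h3⟩

theorem caseA_sq {j t g : G} (hj : CaseA a b j) (ht : InvH a b t) (hga : g • a = b)
    (hgb : g • b = a) (hg : Commute g t) : g * g = 1 := by
  obtain ⟨h1, h2, -, h4⟩ := D.caseA_mul hj hga hgb
  rw [h4]
  exact D.sq_one_of_commute ht h1 h2 ((hj.2 t ht.2.2.1 ht.2.2.2).mul_left hg)

theorem swapFacts [Finite G] (hS : CaseS G a b) : SwapFacts G a b := by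
  classical
  obtain ⟨φ, hφ, hsgn⟩ := hS
  let E : ↥(setStab G a b) ≃* Equiv.Perm (Fin 5) := MulEquiv.ofBijective φ hφ
  have hEφ : ∀ g, E g = φ g := fun g => rfl
  have hin : ∀ {g : G}, g • a = a → g • b = b → g ∈ setStab G a b := fun h h' => Or.inl ⟨h, h'⟩
  have hsw : ∀ {g : G}, g • a = b → g • b = a → g ∈ setStab G a b := fun h h' => Or.inr ⟨h, h'⟩
  have hevenH : ∀ {g : G} (hga : g • a = a) (hgb : g • b = b),
      φ ⟨g, hin hga hgb⟩ ∈ alternatingGroup (Fin 5) := fun hga hgb =>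
    Equiv.Perm.mem_alternatingGroup.2 ((hsgn _).2 hga)
  have hoddW : ∀ {g : G} (hga : g • a = b) (hgb : g • b = a),
      Equiv.Perm.sign (φ ⟨g, hsw hga hgb⟩) = -1 := fun hga hgb =>
    (Int.units_eq_one_or _).resolve_left fun h => D.ne (((hsgn _).1 h).symm.trans hga)
  have hback : ∀ σ : Equiv.Perm (Fin 5), ∃ (g : G) (hg : g ∈ setStab G a b),
      φ ⟨g, hg⟩ = σ ∧ (Equiv.Perm.sign σ = -1 → g • a = b ∧ g • b = a) ∧
      (Equiv.Perm.sign σ = 1 → g • a = a ∧ g • b = b) := by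
    intro σ
    obtain ⟨⟨g, hg⟩, hgσ⟩ := hφ.2 σ
    refine ⟨g, hg, hgσ, fun h => ?_, fun h => ?_⟩
    · rcases hg with ⟨hga, hgb⟩ | h'
      · have h1 := (hsgn ⟨g, Or.inl ⟨hga, hgb⟩⟩).2 hga
        rw [hgσ, h] at h1
        exact absurd h1 (by decide)
      · exact h'
    · have hga : g • a = a := (hsgn ⟨g, hg⟩).1 (hgσ ▸ h)
      rcases hg with h' | ⟨h1, -⟩
      · exact h'
      · exact absurd (hga.symm.trans h1) D.ne
  have hmul : ∀ {g k : G} (hg : g ∈ setStab G a b) (hk : k ∈ setStab G a b),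
      φ ⟨g * k, mul_mem hg hk⟩ = φ ⟨g, hg⟩ * φ ⟨k, hk⟩ := fun hg hk => map_mul φ ⟨_, hg⟩ ⟨_, hk⟩
  have hinj : ∀ {g k : G} (hg : g ∈ setStab G a b) (hk : k ∈ setStab G a b),
      φ ⟨g, hg⟩ = φ ⟨k, hk⟩ → g = k := fun hg hk h => congrArg Subtype.val (hφ.1 h)
  have hone : ∀ {g : G} (hg : g ∈ setStab G a b), φ ⟨g, hg⟩ = 1 → g = 1 := fun hg h =>
    hinj hg (setStab G a b).one_mem (h.trans (map_one φ).symm)
  -- the letters of an involution of the pair stabiliser
  have hlet : ∀ {t : G} (ht : InvH a b t),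
      (⟨φ ⟨t, hin ht.2.2.1 ht.2.2.2⟩, hevenH ht.2.2.1 ht.2.2.2⟩ : ↥(alternatingGroup (Fin 5))) *
        ⟨φ ⟨t, hin ht.2.2.1 ht.2.2.2⟩, hevenH ht.2.2.1 ht.2.2.2⟩ = 1 ∧
      (⟨φ ⟨t, hin ht.2.2.1 ht.2.2.2⟩, hevenH ht.2.2.1 ht.2.2.2⟩ : ↥(alternatingGroup (Fin 5))) ≠ 1 := by
    intro t ht
    refine ⟨Subtype.ext ?_, fun h => ht.2.1 (hone _ (congrArg Subtype.val h))⟩
    show φ _ * φ _ = 1
    rw [← map_mul, ← map_one φ]
    exact congrArg φ (Subtype.ext ht.1)
  refine ⟨?_, ?_, ?_, ?_, ?_⟩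
  · intro t s F
    obtain ⟨u, hu, hus, hut, hu'⟩ := SFive.sw _ (hlet F.t_inv).1 (hlet F.t_inv).2
      ⟨φ ⟨s, hin F.s_inv.2.2.1 F.s_inv.2.2.2⟩, hevenH F.s_inv.2.2.1 F.s_inv.2.2.2⟩
      (Subtype.ext (by
        show φ _ * φ _ = φ _ * φ _
        rw [← map_mul, ← map_mul]; exact congrArg φ (Subtype.ext F.comm.eq)))
      (hlet F.s_inv).2
      (fun h => F.ne (hinj _ _ (congrArg Subtype.val h)))
    obtain ⟨g, hg, rfl, hgo, -⟩ := hback u
    obtain ⟨hga, hgb⟩ := hgo hus
    have hg2 : g * g = 1 := hone (mul_mem hg hg) (by rw [hmul hg hg]; exact hu)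
    have hgt : Commute g t := hinj (mul_mem hg (hin F.t_inv.2.2.1 F.t_inv.2.2.2))
      (mul_mem (hin F.t_inv.2.2.1 F.t_inv.2.2.2) hg) (by rw [hmul, hmul]; exact hut)
    refine ⟨g, ⟨hg2, hga⟩, hgt, mul_inv_eq_iff_eq_mul.2 ?_⟩
    exact hinj (mul_mem hg (hin F.s_inv.2.2.1 F.s_inv.2.2.2))
      (mul_mem (mul_mem (hin F.s_inv.2.2.1 F.s_inv.2.2.2) (hin F.t_inv.2.2.1 F.t_inv.2.2.2)) hg)
      (by rw [hmul hg (hin F.s_inv.2.2.1 F.s_inv.2.2.2),
            hmul (mul_mem (hin F.s_inv.2.2.1 F.s_inv.2.2.2) (hin F.t_inv.2.2.1 F.t_inv.2.2.2)) hg,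
            hmul (hin F.s_inv.2.2.1 F.s_inv.2.2.2) (hin F.t_inv.2.2.1 F.t_inv.2.2.2)]
          exact hu')
  · intro u v hu hv
    have hu' := hsw hu.2 hu.swap
    have hv' := hsw hv.2 hv.swap
    obtain ⟨g, hg, hgc⟩ := SFive.odd_conj (φ ⟨u, hu'⟩)
      (by rw [← hmul hu' hu', ← map_one φ]; exact congrArg φ (Subtype.ext hu.1))
      (hoddW hu.2 hu.swap) (φ ⟨v, hv'⟩)
      (by rw [← hmul hv' hv', ← map_one φ]; exact congrArg φ (Subtype.ext hv.1))
      (hoddW hv.2 hv.swap)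
    obtain ⟨⟨k, hk⟩, rfl⟩ := hφ.2 g
    refine isConj_iff.2 ⟨k, ?_⟩
    rw [← map_inv, ← map_mul, ← map_mul] at hgc
    exact congrArg Subtype.val (hφ.1 hgc)
  · rw [← SFive.card_odd, ← Nat.card_eq_fintype_card]
    refine Nat.card_congr (Equiv.ofBijective
      (fun u : {u : G // Sw a b u} =>
        (⟨φ ⟨u.1, hsw u.2.2 u.2.swap⟩, hoddW u.2.2 u.2.swap, by
          rw [← hmul, ← map_one φ]; exact congrArg φ (Subtype.ext u.2.1)⟩ :
          {σ : Equiv.Perm (Fin 5) // Equiv.Perm.sign σ = -1 ∧ σ * σ = 1})) ⟨?_, ?_⟩)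
    · intro u v h
      exact Subtype.ext (hinj _ _ (congrArg Subtype.val h))
    · rintro ⟨σ, hσ, hσ2⟩
      obtain ⟨g, hg, rfl, hgo, -⟩ := hback σ
      obtain ⟨hga, hgb⟩ := hgo hσ
      exact ⟨⟨g, hone (mul_mem hg hg) (by rw [hmul hg hg]; exact hσ2), hga⟩, rfl⟩
  · intro t g ht hga hgb hgt
    have ht' := hin ht.2.2.1 ht.2.2.2
    have hg' := hsw hga hgb
    rcases SFive.odd_sq _ (hlet ht).1 (hlet ht).2 (φ ⟨g, hg'⟩)
      (by show φ _ * φ _ = φ _ * φ _
          rw [← map_mul, ← map_mul]; exact congrArg φ (Subtype.ext hgt.eq))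
      (hoddW hga hgb) with h | h
    · exact Or.inl (hone (mul_mem hg' hg') (by rw [hmul]; exact h))
    · exact Or.inr (hinj (mul_mem hg' hg') ht' (by rw [hmul]; exact h))
  · intro t s g F hga hgb hgt hgs
    have hg' := hsw hga hgb
    have h := SFive.odd_four _ (hlet F.t_inv).1 (hlet F.t_inv).2
      ⟨φ ⟨s, hin F.s_inv.2.2.1 F.s_inv.2.2.2⟩, hevenH F.s_inv.2.2.1 F.s_inv.2.2.2⟩
      (Subtype.ext (by
        show φ _ * φ _ = φ _ * φ _
        rw [← map_mul, ← map_mul]; exact congrArg φ (Subtype.ext F.comm.eq)))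
      (hlet F.s_inv).2
      (fun h => F.ne (hinj _ _ (congrArg Subtype.val h))) (φ ⟨g, hg'⟩)
      (by show φ _ * φ _ = φ _ * φ _
          rw [← map_mul, ← map_mul]; exact congrArg φ (Subtype.ext hgt.eq))
      (by show φ _ * φ _ = φ _ * φ _
          rw [← map_mul, ← map_mul]; exact congrArg φ (Subtype.ext hgs.eq))
    exact D.ne (((hsgn ⟨g, hg'⟩).1 h).symm.trans hga)

/-- The possibilities for the number of class members swapping the pair. -/
theorem swap_cases [Finite G] [Finite Ω] {t : G} (ht : InvH a b t) :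
    (∃ j : G, CaseA a b j ∧ swapNum a b t = 15 ∧ ¬ IsConj t j ∧
        ∀ v : G, InvH a b v → IsConj t (j * v)) ∨
      (∃ j : G, CaseA a b j ∧ swapNum a b t = 1 ∧ IsConj t j ∧
        ∀ v : G, InvH a b v → ¬ IsConj t (j * v)) ∨
      (∃ j : G, CaseA a b j ∧ swapNum a b t = 16 ∧ IsConj t j ∧
        ∀ u : G, orderOf u = 2 → IsConj t u) ∨
      (SwapFacts G a b ∧ swapNum a b t = 10 ∧ ∀ u : G, orderOf u = 2 → IsConj t u) := by
  classical
  rcases D.dichotomy with ⟨j, hj⟩ | hS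
  · have hvj : ∀ v : G, InvH a b v → IsConj (j * t) (j * v) := by
      intro v hv
      obtain ⟨g, hga, hgb, rfl⟩ := D.conj ht hv
      refine isConj_iff.2 ⟨g, ?_⟩
      calc g * (j * t) * g⁻¹ = (g * j) * (t * g⁻¹) := by group
        _ = j * (g * t * g⁻¹) := by rw [← (hj.2 g hga hgb).eq]; group
    have hcj : swapNum a b t =
        (if IsConj t j then 1 else 0) + (if IsConj t (j * t) then 15 else 0) := by
      have := Fintype.ofFinite G
      rw [swapNum]
      have hset : {u : G | IsConj t u ∧ u • a = b} =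
          (if IsConj t j then {j} else ∅) ∪
            (if IsConj t (j * t) then (j * ·) '' {v : G | InvH a b v} else ∅) := by
        ext u
        simp only [Set.mem_union, Set.mem_setOf_eq]
        constructor
        · intro hu
          obtain ⟨k, hka, hkb, hk, rfl⟩ := D.caseA_swap hj (D.swap_sub ht hu)
          by_cases h1 : k = 1
          · subst h1
            rw [mul_one] at hu ⊢
            exact Or.inl (by rw [if_pos hu.1]; exact rfl)
          · refine Or.inr ?_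
            rw [if_pos (hu.1.trans (hvj k ⟨hk, h1, hka, hkb⟩).symm)]
            exact ⟨k, ⟨hk, h1, hka, hkb⟩, rfl⟩
        · rintro (h | h) <;> split_ifs at h with hc
          · obtain rfl : u = j := h
            exact ⟨hc, hj.1.2⟩
          · exact h.elim
          · obtain ⟨v, hv, rfl⟩ := h
            exact ⟨hc.trans (hvj v hv), by rw [mul_smul, hv.2.2.1, hj.1.2]⟩
          · exact h.elim
      have hdisj : Disjoint (if IsConj t j then ({j} : Set G) else ∅)
          (if IsConj t (j * t) then (j * ·) '' {v : G | InvH a b v} else ∅) := by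
        split_ifs <;> simp
        exact fun h => h.2.1 rfl
      rw [show Nat.card {u : G // IsConj t u ∧ u • a = b} = Set.ncard {u : G | IsConj t u ∧ u • a = b}
        from Nat.card_coe_set_eq _, hset, Set.ncard_union_eq hdisj (Set.toFinite _) (Set.toFinite _)]
      have h15 : Set.ncard {v : G | InvH a b v} = 15 := by
        rw [← D.pairNum_eq, pairNum, ← Nat.card_coe_set_eq]
        exact Nat.card_congr (Equiv.subtypeEquivRight fun u =>
          ⟨fun h => ⟨h.orderOf, h.2.2⟩,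
            fun h => ⟨mul_self_of_orderOf h.1, ne_one_of_orderOf h.1, h.2⟩⟩)
      split_ifs <;>
        simp [Set.ncard_image_of_injective _ (mul_right_injective j), h15, -Set.image_mul_left]
    have hpos := (D.base ht).swap_pos
    by_cases h1 : IsConj t j <;> by_cases h2 : IsConj t (j * t) <;>
      simp only [h1, h2, if_true, if_false] at hcj <;> norm_num at hcj
    · refine Or.inr (Or.inr (Or.inl ⟨j, hj, hcj, h1, D.all_conj ht fun w hw => ?_⟩))
      obtain ⟨k, hka, hkb, hk, rfl⟩ := D.caseA_swap hj hw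
      by_cases hk1 : k = 1
      · rw [hk1, mul_one]; exact h1
      · exact h2.trans (hvj k ⟨hk, hk1, hka, hkb⟩)
    · exact Or.inr (Or.inl ⟨j, hj, hcj, h1, fun v hv h => h2 (h.trans (hvj v hv).symm)⟩)
    · exact Or.inl ⟨j, hj, hcj, h1, fun v hv => h2.trans (hvj v hv)⟩
    · omega
  · have hF := D.swapFacts hS
    obtain ⟨⟨u, hu⟩⟩ := (Nat.card_pos_iff.1 (D.base ht).swap_pos).1
    have hall : ∀ w : G, Sw a b w → IsConj t w :=
      fun w hw => hu.1.trans (hF.conj u w (D.swap_sub ht hu) hw)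
    refine Or.inr (Or.inr (Or.inr ⟨hF, ?_, D.all_conj ht hall⟩))
    rw [swapNum, ← hF.card]
    exact Nat.card_congr (Equiv.subtypeEquivRight fun w =>
      ⟨fun h => D.swap_sub ht h, fun h => ⟨hall w h, h.2⟩⟩)

end Data

end Cfsg.Agent.Lib.TwoTransA5
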