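import Cfsg.Agent.Lib.TwoTransA5.Ratio
import Mathlib.Tactic.LinearCombination

/-!
# Arithmetic of the even case
-/

set_option autoImplicit false

namespace Cfsg.Agent.Lib.TwoTransA5.EvenNum

theorem small_search : ∀ i < 6, ∀ j < 82,
    25 * ((26 + 4 * i) + (2 + 4 * j) + 2) * ((26 + 4 * i) * (2 + 4 * j)) ≠
      24 * (((26 + 4 * i) + (2 + 4 * j) + 1) * ((26 + 4 * i + 1) * (2 + 4 * j + 1))) := by
  decide +kernel

theorem no_pair {a b : ℕ} (ha : a % 4 = 2) (hb : b % 4 = 2) (hab : a ≤ b) :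
    25 * (a + b + 2) * (a * b) ≠ 24 * ((a + b + 1) * ((a + 1) * (b + 1))) := by
  intro h
  have h24 : 25 ≤ a := by
    by_contra hlt
    have h1 : 25 * a ≤ 24 * (a + 1) := by omega
    have h2 := Nat.mul_le_mul_right ((a + b + 1) * (b + 1)) h1
    have h3 : (a + b + 2) * b < (a + b + 1) * (b + 1) := by
      ring_nf; omega
    have h4 : 25 * a * ((a + b + 2) * b) < 25 * a * ((a + b + 1) * (b + 1)) :=
      Nat.mul_lt_mul_of_pos_left h3 (by omega)
    rw [show 25 * a * ((a + b + 2) * b) = 25 * (a + b + 2) * (a * b) by ring, h] at h4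
    rw [show 24 * (a + 1) * ((a + b + 1) * (b + 1)) = 24 * ((a + b + 1) * ((a + 1) * (b + 1))) by
      ring] at h2
    omega
  have hp : 25 * (a * b) < 24 * ((a + 1) * (b + 1)) := by
    refine Nat.lt_of_mul_lt_mul_left (a := a + b + 2) ?_
    calc (a + b + 2) * (25 * (a * b)) = 24 * ((a + b + 1) * ((a + 1) * (b + 1))) := by rw [← h]; ring
      _ = (a + b + 1) * (24 * ((a + 1) * (b + 1))) := by ring
      _ < (a + b + 2) * (24 * ((a + 1) * (b + 1))) :=
        Nat.mul_lt_mul_of_pos_right (by omega) (by positivity)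
  obtain ⟨p, rfl⟩ : ∃ p, a = 26 + 4 * p := ⟨(a - 26) / 4, by omega⟩
  obtain ⟨q, rfl⟩ : ∃ q, b = 2 + 4 * q := ⟨(b - 2) / 4, by omega⟩
  have hp6 : p < 6 := by
    by_contra h6
    have h50 : 50 ≤ 26 + 4 * p := by omega
    have := Nat.mul_le_mul h50 hab
    nlinarith
  have hq : q < 82 := by nlinarith
  exact small_search p hp6 q hq h

theorem twenty_five_thirds {ρ : ℚ} (h : RatioPos ρ ∨ RatioNeg ρ) : ρ ≠ 25 / 3 := by
  rintro rfl
  rcases h with h | h
  · linarith [(pos_bounds h).1]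
  · obtain ⟨a, b, ha, hb, e⟩ := h
    have e' : 25 * (a + b + 2) * (a * b) = 24 * ((a + b + 1) * ((a + 1) * (b + 1))) := by
      have e'' : ((25 * (a + b + 2) * (a * b) : ℕ) : ℚ) =
          ((24 * ((a + b + 1) * ((a + 1) * (b + 1))) : ℕ) : ℚ) := by
        push_cast
        linear_combination 3 * e
      exact_mod_cast e''
    rcases le_total a b with hab | hab
    · exact no_pair ha hb hab e'
    · exact no_pair hb ha hab (by linarith [e'])

/-- A ratio in the gap `(12, 63/5]` determines a square. -/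
theorem gap {ρ : ℚ} (h : RatioPos ρ ∨ RatioNeg ρ) (h1 : 51 / 5 ≤ ρ) (h2 : ρ < 15) :
    ∃ m : ℕ, 8 ≤ m ∧ (ρ - 12) * ((m : ℚ) ^ 2 - 4) = 36 ∧ ρ ≤ 63 / 5 := by
  rcases h with h | h
  · linarith [(pos_bounds h).1]
  · rcases (neg_bounds h).2 with h' | h' | ⟨y, -, hy, e, h'⟩
    · linarith
    · linarith
    · exact ⟨y + 2, by omega, by push_cast; exact e, h'⟩

/-- `15 (d² + 1) = ρ (d + 1)²` has no solution with `d` a power of two. -/
theorem fifteen {ρ : ℚ} (h : RatioPos ρ ∨ RatioNeg ρ) {k : ℕ} (hk : 1 ≤ k)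
    (e : 15 * ((2 ^ k : ℚ) ^ 2 + 1) = ρ * ((2 ^ k : ℚ) + 1) ^ 2) : False := by
  rcases (show k = 1 ∨ k = 2 ∨ k = 3 ∨ 4 ≤ k by omega) with rfl | rfl | rfl | h4
  · exact twenty_five_thirds h (by norm_num at e; linarith)
  · norm_num at e
    obtain ⟨m, hm, e', -⟩ := gap h (by linarith) (by linarith)
    have : (8 : ℚ) ≤ m := by exact_mod_cast hm
    nlinarith
  · norm_num at e
    obtain ⟨m, hm, e', -⟩ := gap h (by linarith) (by linarith)
    have hρ : ρ = 975 / 81 := by linarith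
    subst hρ
    have hm2 : m * m = 976 := by
      have : ((m * m : ℕ) : ℚ) = ((976 : ℕ) : ℚ) := by push_cast; linarith
      exact_mod_cast this
    rcases Nat.lt_or_ge m 32 with h32 | h32
    · nlinarith
    · nlinarith
  · have h16 : (16 : ℚ) ≤ 2 ^ k := by
      calc (16 : ℚ) = 2 ^ 4 := by norm_num
        _ ≤ _ := pow_le_pow_right₀ (by norm_num) h4
    have h1 : 63 / 5 < ρ := by
      by_contra hle
      have := mul_le_mul_of_nonneg_right (not_lt.1 hle)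
        (by positivity : (0 : ℚ) ≤ ((2 ^ k : ℚ) + 1) ^ 2)
      nlinarith
    have h2 : ρ < 15 := by
      by_contra hle
      have := mul_le_mul_of_nonneg_right (not_lt.1 hle)
        (by positivity : (0 : ℚ) ≤ ((2 ^ k : ℚ) + 1) ^ 2)
      nlinarith
    obtain ⟨m, -, -, h'⟩ := gap h (by linarith) h2
    linarith

/-- `16 d² + 15 = ρ (d + 1)²` forces `d = 2` or `d = 8`. -/
theorem sixteen_one {ρ : ℚ} (h : RatioPos ρ ∨ RatioNeg ρ) {k : ℕ} (hk : 1 ≤ k)
    (e : 16 * (2 ^ k : ℚ) ^ 2 + 15 = ρ * ((2 ^ k : ℚ) + 1) ^ 2) : k = 1 ∨ k = 3 := by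
  rcases (show k = 1 ∨ k = 2 ∨ k = 3 ∨ k = 4 ∨ 5 ≤ k by omega) with rfl | rfl | rfl | rfl | h5
  · exact Or.inl rfl
  · exfalso
    norm_num at e
    obtain ⟨m, hm, e', -⟩ := gap h (by linarith) (by linarith)
    have : (8 : ℚ) ≤ m := by exact_mod_cast hm
    nlinarith
  · exact Or.inr rfl
  · exfalso
    norm_num at e
    obtain ⟨m, -, -, h'⟩ := gap h (by linarith) (by linarith)
    linarith
  · exfalso
    have h32 : (32 : ℚ) ≤ 2 ^ k := by
      calc (32 : ℚ) = 2 ^ 5 := by norm_num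
        _ ≤ _ := pow_le_pow_right₀ (by norm_num) h5
    have := mul_le_mul_of_nonneg_right (le_fifteen h)
      (by positivity : (0 : ℚ) ≤ ((2 ^ k : ℚ) + 1) ^ 2)
    nlinarith

/-- `32 d² - 16 d + 15 = ρ (2 d + 1)²` has no solution with `d` even. -/
theorem sixteen_two {ρ : ℚ} (h : RatioPos ρ ∨ RatioNeg ρ) {d : ℕ} (hd : 2 ≤ d) (hev : Even d)
    (e : 32 * (d : ℚ) ^ 2 - 16 * d + 15 = ρ * (2 * (d : ℚ) + 1) ^ 2) : False := by
  have hd2 : (2 : ℚ) ≤ d := by exact_mod_cast hd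
  have h8 : ρ < 8 := by
    by_contra hle
    have := mul_le_mul_of_nonneg_right (not_lt.1 hle)
      (by positivity : (0 : ℚ) ≤ (2 * (d : ℚ) + 1) ^ 2)
    nlinarith
  rcases h with h | h
  · obtain ⟨k, hk, ek⟩ := h
    obtain ⟨K, hK⟩ : ∃ K, k + 1 = 2 * K := ⟨(k + 1) / 2, by omega⟩
    have e4 : (32 * d ^ 2 + 15) * K ^ 2 = 16 * d * K ^ 2 + k * (2 * k + 1) * (2 * d + 1) ^ 2 := by
      have hKq : (k : ℚ) + 1 = 2 * K := by exact_mod_cast hK
      rw [hKq] at ek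
      have : (((32 * d ^ 2 + 15) * K ^ 2 : ℕ) : ℚ) =
          ((16 * d * K ^ 2 + k * (2 * k + 1) * (2 * d + 1) ^ 2 : ℕ) : ℚ) := by
        push_cast
        linear_combination (K : ℚ) ^ 2 * e + (2 * (d : ℚ) + 1) ^ 2 / 4 * ek
      exact_mod_cast this
    have hcop : Nat.Coprime (K ^ 2) (k * (2 * k + 1)) := by
      refine (Nat.Coprime.pow_left 2 ?_)
      refine Nat.Coprime.mul_right (Nat.coprime_of_dvd' fun p _ h1 h2 => ?_)
        (Nat.coprime_of_dvd' fun p _ h1 h2 => ?_)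
      · have h3 : p ∣ k + 1 := hK ▸ h1.mul_left 2
        exact (Nat.dvd_add_right h2).1 h3
      · have h3 : p ∣ 2 * (k + 1) := (hK ▸ h1.mul_left 2 : p ∣ k + 1).mul_left 2
        rw [show 2 * (k + 1) = 2 * k + 1 + 1 by ring] at h3
        exact (Nat.dvd_add_right h2).1 h3
    have hdvd : K ^ 2 ∣ k * (2 * k + 1) * (2 * d + 1) ^ 2 :=
      (Nat.dvd_add_right (dvd_mul_left (K ^ 2) (16 * d))).1 (e4 ▸ dvd_mul_left (K ^ 2) _)
    obtain ⟨m, hm⟩ := (Nat.pow_dvd_pow_iff (by norm_num : 2 ≠ 0)).1 (hcop.dvd_of_dvd_mul_left hdvd)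
    have hK0 : (K : ℤ) ^ 2 ≠ 0 := pow_ne_zero 2 (by omega)
    have e5 : (K : ℤ) ^ 2 * ((6 * m * m - 24 * m) * K + 31 - m * m) = 0 := by
      have hm' : (2 : ℤ) * d + 1 = K * m := by exact_mod_cast hm
      have hk' : (k : ℤ) = 2 * K - 1 := by omega
      have e4' : ((32 : ℤ) * d ^ 2 + 15) * K ^ 2 =
          16 * d * K ^ 2 + k * (2 * k + 1) * (2 * d + 1) ^ 2 := by exact_mod_cast e4
      rw [hm', hk'] at e4'
      linear_combination e4' - (K : ℤ) ^ 2 *
        (8 * (2 * (d : ℤ) + 1 + K * m) - 24) * hm'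
    have e6 := (mul_eq_zero.1 e5).resolve_left hK0
    have h31 : (m : ℤ) ∣ 31 := ⟨m - (6 * m - 24) * K, by linear_combination e6⟩
    have h31' : m ∣ 31 := by exact_mod_cast h31
    rcases (Nat.dvd_prime (by norm_num)).1 h31' with rfl | rfl
    · push_cast at e6; omega
    · push_cast at e6; omega
  · linarith [(neg_bounds h).1]

/-- `5 (2 d² + 3) = ρ (d + 1)²` with `d ≤ 4` forces `d = 2`. -/
theorem ten {ρ : ℚ} (h : RatioPos ρ ∨ RatioNeg ρ) {d : ℕ} (hd : d = 4)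
    (e : 5 * (2 * (d : ℚ) ^ 2 + 3) = ρ * ((d : ℚ) + 1) ^ 2) : False := by
  subst hd
  norm_num at e
  rcases h with h | h
  · obtain ⟨k, hk, ek⟩ := h
    rw [show ρ = 7 by linarith] at ek
    have h7 : k * k = 10 * k + 7 := by
      have : ((k * k : ℕ) : ℚ) = ((10 * k + 7 : ℕ) : ℚ) := by push_cast; linear_combination -ek
      exact_mod_cast this
    rcases Nat.lt_or_ge k 11 with h11 | h11
    · nlinarith
    · nlinarith
  · linarith [(neg_bounds h).1]

end Cfsg.Agent.Lib.TwoTransA5.EvenNum
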