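import Cfsg.Agent.Lib.TwoTransA5.Image
import Cfsg.Agent.Lib.TwoTransA4.EvenCases
import Cfsg.Agent.Lib.TwoTransA4.OddTwisted

/-!
# Involutions outside the class of the induced group in even degree

One of them swaps each pair, none fixes a point; those commuting with a class member commute with
each other.  In the case `S₅` they lift to elements of order four, so three independent commuting ones
do not exist.
-/

set_option autoImplicit false
set_option linter.unusedSectionVars false

namespace Cfsg.Agent.Lib.TwoTransA5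

open MulAction
open Cfsg.Agent.Lib.ConstFix25 (fx two_apply mul_self_of_orderOf ne_one_of_orderOf orderOf_conj
  card_map_pair)
open Cfsg.Agent.Lib.TwoTransA4 (Base InvH Sw orderOf_eq_two inv_eq_self pairNum swapNum W X cmap
  mem_cent bar bar_smul bar_mul bar_one bar_inv bar_congr exists_bar bar_eq_one_iff bar_eq_iff
  faithfulX two_le_fx_of_fix exists_two_fixed even_moved conj_smul_smul)

/-- An involution outside the class. -/
def Out {G : Type*} [Group G] (t u : G) : Prop := orderOf u = 2 ∧ ¬ IsConj t u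

theorem Out.conj {G : Type*} [Group G] {t u : G} (h : Out t u) (g : G) : Out t (g * u * g⁻¹) :=
  ⟨(orderOf_conj g u).trans h.1, fun hc => h.2 (hc.trans (isConj_iff.2 ⟨g, rfl⟩).symm)⟩

variable {G Ω : Type*} [Group G] [MulAction G Ω]

/-- The numerical facts about the induced group. -/
structure Twisted (G Ω : Type*) [Group G] [MulAction G Ω] (a b : Ω) (t : G) : Prop where
  base : Base G Ω a b t
  stab : ∀ g : G, g • a = a → g • b = b → g = 1 ∨ g = t
  one : swapNum a b t = 1
  sq : ∀ g : G, g • a = b → g • b = a → g * g = 1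
  even : Even (Nat.card Ω)

namespace Twisted

variable {a b : Ω} {t : G} (T : Twisted G Ω a b t)
include T

theorem out_free [Finite Ω] {u : G} (hu : Out t u) (x : Ω) : u • x ≠ x := by
  intro hx
  haveI := T.base.faithful
  have hle : fx Ω u ≤ 1 := by
    by_contra h
    exact hu.2 (T.base.mem_class_iff.2 ⟨hu.1, by omega⟩)
  have hev := even_moved (Ω := Ω) hu.1
  haveI : Nonempty {y : Ω // u • y = y} := ⟨⟨x, hx⟩⟩
  have h1 : 0 < fx Ω u := Nat.card_pos
  rw [show fx Ω u = 1 by omega] at hev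
  obtain ⟨k, hk⟩ := hev
  obtain ⟨n, hn⟩ := T.even
  haveI : Nonempty Ω := ⟨a⟩
  have := Nat.card_pos (α := Ω)
  omega

theorem card_swappers [Finite G] [Finite Ω] :
    Nat.card {g : G // g • a = b ∧ g • b = a} = 2 := by
  rw [card_map_pair T.base.two T.base.ne T.base.ne.symm]
  refine Nat.card_eq_two_iff.2 ⟨1, ⟨t, T.base.fix_a, T.base.fix_b⟩, ?_, ?_⟩
  · exact fun e => ne_one_of_orderOf T.base.invol (congrArg Subtype.val e).symm
  · refine Set.eq_univ_iff_forall.2 fun x => ?_
    rcases T.stab x.1 x.2.1 x.2.2 with h | h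
    · exact Or.inl (Subtype.ext h)
    · exact Or.inr (Subtype.ext h)

theorem class_swapper [Finite G] [Finite Ω] :
    ∃ w : G, IsConj t w ∧ w • a = b ∧ w • b = a ∧
      ∀ w', IsConj t w' → w' • a = b → w' = w := by
  obtain ⟨h1, ⟨⟨w, hw, hwa⟩⟩⟩ := Nat.card_eq_one_iff_unique.1 T.one
  refine ⟨w, hw, hwa, ?_, fun w' hw' hw'a => congrArg Subtype.val (Subsingleton.elim
    (⟨w', hw', hw'a⟩ : {u : G // IsConj t u ∧ u • a = b}) ⟨w, hw, hwa⟩)⟩
  rw [← hwa, ← mul_smul, mul_self_of_orderOf (T.base.orderOf_class hw), one_smul]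

theorem out_exists [Finite G] [Finite Ω] {x y : Ω} (hxy : x ≠ y) :
    ∃ u : G, Out t u ∧ u • x = y := by
  classical
  obtain ⟨w, hw, hwa, hwb, huniq⟩ := T.class_swapper
  obtain ⟨g, hga, hgb, hgw⟩ : ∃ g : G, g • a = b ∧ g • b = a ∧ g ≠ w := by
    by_contra! h
    have hle : Nat.card {g : G // g • a = b ∧ g • b = a} ≤ 1 :=
      Finite.card_le_one_iff_subsingleton.2 ⟨fun p q =>
        Subtype.ext ((h p.1 p.2.1 p.2.2).trans (h q.1 q.2.1 q.2.2).symm)⟩
    rw [T.card_swappers] at hle
    omega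
  have hg : Out t g := ⟨orderOf_eq_two (T.sq g hga hgb) fun e => T.base.ne (by
    rw [← hga, e, one_smul]), fun h => hgw (huniq g h hga)⟩
  obtain ⟨k, hka, hkb⟩ := two_apply T.base.two T.base.ne hxy
  exact ⟨k * g * k⁻¹, hg.conj k, by rw [← hka, conj_smul_smul, hga, hkb]⟩

theorem out_unique [Finite G] [Finite Ω] {u v : G} (hu : Out t u) (hv : Out t v) {x : Ω}
    (h : u • x = v • x) : u = v := by
  classical
  by_contra hne
  have hxy : x ≠ u • x := fun e => T.out_free hu x e.symm
  obtain ⟨k, hka, hkb⟩ := two_apply T.base.two T.base.ne hxy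
  have key : ∀ z : G, Out t z → z • x = u • x →
      (k⁻¹ * z * k⁻¹⁻¹) • a = b ∧ (k⁻¹ * z * k⁻¹⁻¹) • b = a := by
    intro z hz hzx
    refine ⟨by rw [inv_inv, mul_smul, mul_smul, hka, hzx, ← hkb, inv_smul_smul], ?_⟩
    rw [inv_inv, mul_smul, mul_smul, hkb, ← hzx, ← mul_smul z, mul_self_of_orderOf hz.1, one_smul,
      ← hka, inv_smul_smul]
  obtain ⟨w, hw, hwa, hwb, -⟩ := T.class_swapper
  let S : Finset G := {w, k⁻¹ * u * k⁻¹⁻¹, k⁻¹ * v * k⁻¹⁻¹}
  have hS : S.card = 3 := by
    have h1 : w ≠ k⁻¹ * u * k⁻¹⁻¹ := fun e => (hu.conj k⁻¹).2 (e ▸ hw)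
    have h2 : w ≠ k⁻¹ * v * k⁻¹⁻¹ := fun e => (hv.conj k⁻¹).2 (e ▸ hw)
    have h3 : k⁻¹ * u * k⁻¹⁻¹ ≠ k⁻¹ * v * k⁻¹⁻¹ :=
      fun e => hne (mul_left_cancel (mul_right_cancel e))
    simp only [S]
    rw [Finset.card_insert_of_notMem, Finset.card_pair h3]
    simp only [Finset.mem_insert, Finset.mem_singleton]
    exact fun e => e.elim h1 h2
  have := Fintype.ofFinite G
  have hle : S.card ≤ (Finset.univ.filter fun g : G => g • a = b ∧ g • b = a).card := by
    refine Finset.card_le_card fun g hg => ?_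
    simp only [S, Finset.mem_insert, Finset.mem_singleton] at hg
    rw [Finset.mem_filter]
    refine ⟨Finset.mem_univ g, ?_⟩
    rcases hg with rfl | rfl | rfl
    · exact ⟨hwa, hwb⟩
    · exact key u hu rfl
    · exact key v hv h.symm
  have h2 := T.card_swappers
  rw [Nat.card_eq_fintype_card, Fintype.card_subtype] at h2
  omega

/-- The product of two commuting involutions outside the class is outside. -/
theorem out_mul [Finite G] [Finite Ω] {u v : G} (hu : Out t u) (hv : Out t v) (hne : u ≠ v)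
    (hc : Commute u v) : Out t (u * v) := by
  have hu2 := mul_self_of_orderOf hu.1
  have hv2 := mul_self_of_orderOf hv.1
  refine ⟨orderOf_eq_two ?_ fun e => hne ?_, fun h => ?_⟩
  · calc u * v * (u * v) = u * (v * u) * v := by group
      _ = 1 := by rw [← hc.eq, ← mul_assoc, hu2, one_mul, hv2]
  · rw [eq_inv_of_mul_eq_one_left e, inv_eq_self hv2]
  · obtain ⟨x, y, -, hx, -⟩ := exists_two_fixed (T.base.mem_class_iff.1 h).2
    refine hne (T.out_unique hu hv (x := x) ?_)
    rw [mul_smul] at hx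
    calc u • x = u • (u • (v • x)) := by rw [hx]
      _ = v • x := by rw [← mul_smul, hu2, one_smul]

/-- Those commuting with `t` commute with one another. -/
theorem out_comm [Finite G] [Finite Ω] {u v : G} (hu : Out t u) (hv : Out t v)
    (hut : Commute u t) (hvt : Commute v t) : Commute u v := by
  classical
  by_cases hne : u = v
  · exact hne ▸ Commute.refl u
  haveI := T.base.two_bar
  have := Fintype.ofFinite (W Ω t)
  have hsharp : ∀ p : Fin 2 ↪ W Ω t, stabilizer ↥(X Ω t) p = ⊥ := by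
    intro p
    refine (Subgroup.eq_bot_iff_forall _).2 fun x hx => ?_
    have h0 : x • p 0 = p 0 := congrArg (fun q : Fin 2 ↪ W Ω t => q 0) hx
    have h1 : x • p 1 = p 1 := congrArg (fun q : Fin 2 ↪ W Ω t => q 1) hx
    have hp : p 0 ≠ p 1 := fun e => absurd (p.injective e) (by decide)
    obtain ⟨g, hga, hgb⟩ := two_apply T.base.two_bar T.base.ne_pts hp
    have h := T.base.bar_fix_one T.stab (x := g⁻¹ * x * g⁻¹⁻¹)
      (by rw [inv_inv, mul_smul, mul_smul, hga, h0, ← hga, inv_smul_smul])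
      (by rw [inv_inv, mul_smul, mul_smul, hgb, h1, ← hgb, inv_smul_smul])
    exact conj_eq_one_iff.1 h
  have hcard : 2 ≤ Fintype.card (W Ω t) := by
    rw [← Nat.card_eq_fintype_card]; exact T.base.two_le_fix
  obtain ⟨p, j, N, -, -, -, -, -, hNc, hNp, -, -, hN⟩ :=
    Cfsg.Agent.Lib.Perm.Sharply2.exists_kernel hsharp hcard
  have hmem : ∀ (g : G) (hg : Commute g t), Out t g → bar hg ∈ N := fun g hg hgo =>
    (hN _).2 (Or.inr fun x e => T.out_free hgo x.1 (congrArg Subtype.val e))
  have hc := hNc.is_comm.comm ⟨_, hmem u hut hu⟩ ⟨_, hmem v hvt hv⟩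
  have hbar : (bar (hut.mul_left hvt) : ↥(X Ω t)) = bar (hvt.mul_left hut) := by
    rw [bar_mul hut hvt, bar_mul hvt hut]
    exact congrArg Subtype.val hc
  rw [bar_eq_iff] at hbar
  -- `u v u` agrees with `v` on the fixed points
  have h := hbar a T.base.fix_a
  have e : (u * v * u⁻¹) • (u • a) = v • (u • a) := by
    rw [conj_smul_smul, ← mul_smul, h, mul_smul]
  exact mul_inv_eq_iff_eq_mul.1 (T.out_unique (hv.conj u) hv e)

/-- Three independent commuting involutions outside the class when `t` fixes more than four points. -/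
theorem exists_three [Finite G] [Finite Ω] (h4 : 4 < fx Ω t) :
    ∃ u v w : G, Out t u ∧ Out t v ∧ Out t w ∧ Commute u v ∧ Commute u w ∧ Commute v w ∧
      u ≠ v ∧ w ≠ u ∧ w ≠ v ∧ w ≠ u * v := by
  classical
  have := Fintype.ofFinite (W Ω t)
  rw [show fx Ω t = Fintype.card (W Ω t) from Nat.card_eq_fintype_card] at h4
  have hex : ∀ q : W Ω t, q.1 ≠ a → ∃ u : G, Out t u ∧ Commute u t ∧ u • a = q.1 := by
    intro q hq
    obtain ⟨u, hu, huq⟩ := T.out_exists (Ne.symm hq)
    refine ⟨u, hu, ?_, huq⟩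
    have e : (t * u * t⁻¹) • a = u • a := by
      have h1 : t⁻¹ • a = a := by rw [inv_smul_eq_iff, T.base.fix_a]
      rw [mul_smul, mul_smul, h1, huq]
      exact q.2
    exact (mul_inv_eq_iff_eq_mul.1 (T.out_unique (hu.conj t) hu e)).symm
  obtain ⟨q, -, hq⟩ := Finset.exists_mem_notMem_of_card_lt_card
    (s := ({⟨a, T.base.fix_a⟩} : Finset (W Ω t))) (t := Finset.univ)
    (by rw [Finset.card_univ, Finset.card_singleton]; omega)
  rw [Finset.mem_singleton] at hq
  obtain ⟨u, hu, hut, hua⟩ := hex q fun e => hq (Subtype.ext e)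
  obtain ⟨r, -, hr⟩ := Finset.exists_mem_notMem_of_card_lt_card
    (s := ({⟨a, T.base.fix_a⟩, q} : Finset (W Ω t))) (t := Finset.univ)
    (lt_of_le_of_lt Finset.card_le_two (by rw [Finset.card_univ]; omega))
  rw [Finset.mem_insert, Finset.mem_singleton, not_or] at hr
  obtain ⟨v, hv, hvt, hva⟩ := hex r fun e => hr.1 (Subtype.ext e)
  have hz : t • (u * v) • a = (u * v) • a := by
    rw [← mul_smul, ← (hut.mul_left hvt).eq, mul_smul, T.base.fix_a]
  obtain ⟨z, -, hzn⟩ := Finset.exists_mem_notMem_of_card_lt_card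
    (s := ({⟨a, T.base.fix_a⟩, q, r, ⟨(u * v) • a, hz⟩} : Finset (W Ω t))) (t := Finset.univ)
    (lt_of_le_of_lt Finset.card_le_four (by rw [Finset.card_univ]; omega))
  simp only [Finset.mem_insert, Finset.mem_singleton, not_or] at hzn
  obtain ⟨w, hw, hwt, hwa⟩ := hex z fun e => hzn.1 (Subtype.ext e)
  refine ⟨u, v, w, hu, hv, hw, T.out_comm hu hv hut hvt, T.out_comm hu hw hut hwt,
    T.out_comm hv hw hvt hwt, fun e => hr.2 (Subtype.ext ?_), fun e => hzn.2.1 (Subtype.ext ?_),
    fun e => hzn.2.2.1 (Subtype.ext ?_), fun e => hzn.2.2.2 (Subtype.ext ?_)⟩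
  · rw [← hva, ← e, hua]
  · rw [← hwa, e, hua]
  · rw [← hwa, e, hva]
  · rw [← hwa, e]

end Twisted

namespace Data

variable {a b : Ω} (D : Data G Ω a b)
include D

theorem twisted [Finite G] [Finite Ω] {t s : G} (F : Four a b t s) (hL : ¬ Lin G a b)
    (hev : Even (fx Ω t))
    (hc : swapNum (pa F.t_inv) (pb F.t_inv) (bar F.comm : ↥(X Ω t)) = 1) :
    Twisted ↥(X Ω t) (W Ω t) (pa F.t_inv) (pb F.t_inv) (bar F.comm) :=
  ⟨D.baseX F hL, fun g hga hgb => D.fix_X_cases F hga hgb, hc,
    fun g hga hgb => D.swapX_sq F.t_inv hga hgb, hev⟩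

/-- In the case `S₅` lifts of the outside involutions square to `t`. -/
theorem lift_sq [Finite G] [Finite Ω] {t s : G} (F : Four a b t s) (hL : ¬ Lin G a b)
    (hS : SwapFacts G a b) {U : G} (hU : Commute U t)
    (hout : Out (bar F.comm : ↥(X Ω t)) (bar hU)) : U * U = t := by
  have hu2 := mul_self_of_orderOf hout.1
  have hx : ∃ x : W Ω t, (bar hU : ↥(X Ω t)) • x ≠ x := by
    by_contra! h
    exact ne_one_of_orderOf hout.1 (eq_of_smul_eq_smul fun x : W Ω t => (h x).trans (one_smul _ x).symm)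
  obtain ⟨x, hx⟩ := hx
  obtain ⟨k, hkt, hka, hkb⟩ := (D.base F.t_inv).cent_two
    (fun e => hx (Subtype.ext e).symm) x.2 ((bar hU : ↥(X Ω t)) • x).2
  set g := k⁻¹ * U * k⁻¹⁻¹ with hg
  have hgt : Commute g t := (hkt.inv_left.mul_left hU).mul_left hkt.inv_left.inv_left
  have hUx : U • x.1 = k • b := by rw [hkb]; rfl
  have hga : g • a = b := by
    rw [hg, inv_inv, mul_smul, mul_smul, hka, hUx, inv_smul_smul]
  have hgb : g • b = a := by
    have hUU : (U * U) • x.1 = x.1 := by
      have h := bar_smul (hU.mul_left hU) x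
      rw [bar_mul hU hU, hu2, one_smul] at h
      exact h.symm
    rw [hg, inv_inv, mul_smul, mul_smul, ← hUx, ← mul_smul U U, hUU, ← hka, inv_smul_smul]
  have hUg : U * U = k * (g * g) * k⁻¹ := by rw [hg]; group
  have hbar : (bar hgt : ↥(X Ω t)) = bar hkt.inv_left * bar hU * (bar hkt.inv_left)⁻¹ := by
    rw [← bar_inv, ← bar_mul hkt.inv_left hU, ← bar_mul]
  rcases D.swap_sq F.t_inv hgt hga hgb with h | h
  · exfalso
    -- an involutive lift of a swapper is `τ` or `τ t`, hence in the class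
    obtain ⟨τ, hτ, hτt, hτs⟩ := hS.exists_sw t s F
    refine (hbar ▸ hout.conj (bar hkt.inv_left) : Out _ (bar hgt)).2 ?_
    obtain ⟨-, ⟨⟨u, hu, hua⟩⟩⟩ := Nat.card_eq_one_iff_unique.1 (D.swapNum_X_ten F hL hS)
    obtain ⟨m, hm, rfl⟩ := exists_bar u
    have hma : m • a = b := congrArg Subtype.val hua
    have hmb : m • b = a := congrArg Subtype.val (D.swapper_class F hL hu hua)
    obtain ⟨h1, -⟩ := D.class_of_bar_conj F hL hm hu
    have hm2 := mul_self_of_orderOf ((D.base F.t_inv).orderOf_class h1)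
    -- both are involutive lifts of swappers
    have hd : g⁻¹ * m = 1 ∨ g⁻¹ * m = t ∨ g⁻¹ * m = s ∨ g⁻¹ * m = s * t := D.four F
      (by rw [mul_smul, hma, inv_smul_eq_iff, hga]) (by rw [mul_smul, hmb, inv_smul_eq_iff, hgb])
      (hgt.inv_left.mul_left hm)
    have hgm : ∀ v : G, InvH a b v → g⁻¹ * m = v → Commute g v := by
      intro v hv e
      have e' : m = g * v := by rw [← e, mul_inv_cancel_left]
      rw [e'] at hm2
      have h3 : g * v * g⁻¹ = v := by
        calc g * v * g⁻¹ = g * v * g := by rw [inv_eq_self h]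
          _ = g * v * (g * v) * v⁻¹ := by group
          _ = v := by rw [hm2, one_mul, inv_eq_self hv.1]
      exact mul_inv_eq_iff_eq_mul.1 h3
    rcases hd with e | e | e | e
    · rw [bar_congr hgt hm (inv_mul_eq_one.1 e)]; exact hu
    · rw [(bar_eq_iff hgt hm).2 fun y hy => by
        rw [show m = g * t by rw [← e, mul_inv_cancel_left], mul_smul g t y, hy]]
      exact hu
    · exact absurd (hgm s F.s_inv e) (hS.not_comm t s g F hga hgb hgt)
    · have hc := hgm (s * t) (D.mul_invH F) e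
      refine absurd ?_ (hS.not_comm t s g F hga hgb hgt)
      have h4 := hc.mul_right hgt
      rwa [mul_assoc, F.t_inv.1, mul_one] at h4
  · rw [hUg, h]
    calc k * t * k⁻¹ = t * k * k⁻¹ := by rw [hkt.eq]
      _ = t := by group

/-- At most four common fixed points in the case `S₅`. -/
theorem le_four_of_ten [Finite G] [Finite Ω] {t s : G} (F : Four a b t s) (hL : ¬ Lin G a b)
    (hS : SwapFacts G a b) (hev : Even (fx Ω t)) :
    fx (W Ω t) (bar F.comm : ↥(X Ω t)) ≤ 4 := by
  by_contra h4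
  have T := D.twisted F hL hev (D.swapNum_X_ten F hL hS)
  obtain ⟨u, v, w, hu, hv, hw, huv, huw, hvw, hne, hwu, hwv, hwuv⟩ := T.exists_three (by omega)
  obtain ⟨U, hU, rfl⟩ := exists_bar u
  obtain ⟨V, hV, rfl⟩ := exists_bar v
  obtain ⟨Z, hZ, rfl⟩ := exists_bar w
  -- lifts of commuting outside involutions anticommute
  have anti : ∀ {P Q : G} (hP : Commute P t) (hQ : Commute Q t),
      Out (bar F.comm : ↥(X Ω t)) (bar hP) → Out (bar F.comm : ↥(X Ω t)) (bar hQ) →
      (bar hP : ↥(X Ω t)) ≠ bar hQ → Commute (bar hP : ↥(X Ω t)) (bar hQ) → P * Q = t * (Q * P) := by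
    intro P Q hP hQ hPo hQo hne hc
    have h1 := D.lift_sq F hL hS hP hPo
    have h2 := D.lift_sq F hL hS hQ hQo
    have h3 : P * Q * (P * Q) = t := D.lift_sq F hL hS (hP.mul_left hQ)
      (by rw [bar_mul hP hQ]; exact T.out_mul hPo hQo hne hc)
    calc P * Q = (P * Q * (P * Q)) * (Q⁻¹ * P⁻¹) := by group
      _ = t * ((Q * Q)⁻¹ * Q * ((P * P)⁻¹ * P)) := by rw [h3]; group
      _ = t * (t * Q * (t * P)) := by rw [h1, h2, inv_eq_self F.t_inv.1]
      _ = t * (t * (Q * t) * P) := by group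
      _ = t * (Q * P) := by rw [hQ.eq, ← mul_assoc t t Q, F.t_inv.1, one_mul]
  have h1 := anti hZ hU hw hu hwu huw.symm
  have h2 := anti hZ hV hw hv hwv hvw.symm
  have h3 := anti hZ (hU.mul_left hV) hw (by rw [bar_mul hU hV]; exact T.out_mul hu hv hne huv)
    (by rw [bar_mul hU hV]; exact hwuv) (by rw [bar_mul hU hV]; exact huw.symm.mul_right hvw.symm)
  have h4 : Z * (U * V) = U * V * Z := by
    calc Z * (U * V) = (Z * U) * V := by group
      _ = t * (U * (Z * V)) := by rw [h1]; group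
      _ = t * ((U * t) * (V * Z)) := by rw [h2]; group
      _ = U * V * Z := by
        rw [hU.eq, ← mul_assoc t (t * U), ← mul_assoc t t U, F.t_inv.1, one_mul]; group
  rw [h4] at h3
  exact F.t_inv.2.1 (mul_eq_right.1 h3.symm)

end Data

end Cfsg.Agent.Lib.TwoTransA5
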