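import Cfsg.Agent.Lib.TwoTransA5.PointStab
import Cfsg.Agent.Lib.TwoTransA5.EvenNum
import Cfsg.Agent.Lib.TwoTransA5.NonClass

/-!
# Even degree: only twelve points remain
-/

set_option autoImplicit false
set_option linter.unusedSectionVars false

namespace Cfsg.Agent.Lib.TwoTransA5

open MulAction
open Cfsg.Agent.Lib.ConstFix25 (fx mul_self_of_orderOf ne_one_of_orderOf)
open Cfsg.Agent.Lib.TwoTransA4 (Base InvH Sw pairNum swapNum W X bar)

variable {G Ω : Type*} [Group G] [MulAction G Ω]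

namespace Data

variable {a b : Ω} (D : Data G Ω a b)
include D

theorem even_cases [Finite G] [Finite Ω] {t : G} (ht : InvH a b t) (heven : Even (Nat.card Ω)) :
    SwapFacts G a b ∧ (∀ u : G, orderOf u = 2 → IsConj t u) ∧ fx Ω t = 4 ∧ Nat.card Ω = 12 := by
  obtain ⟨s, F⟩ := D.exists_four ht
  have hfe : Even (fx Ω t) := (D.base ht).even_iff.1 heven
  have hf2 := (D.base ht).two_le_fix
  have hlt := (D.base ht).fix_lt
  obtain ⟨ρ, hρ, hρ1⟩ := D.even_ratio F heven
  have hfx := D.fixity ht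
  obtain ⟨e, he⟩ : ∃ e, Nat.card Ω = fx Ω t + e := ⟨Nat.card Ω - fx Ω t, by omega⟩
  rw [he, Nat.add_sub_cancel_left] at hfx
  have hnq : (15 : ℚ) * e = (swapNum a b t : ℚ) * (fx Ω t * ((fx Ω t : ℚ) - 1)) := by
    have : ((fx Ω t - 1 : ℕ) : ℚ) = (fx Ω t : ℚ) - 1 := by
      rw [Nat.cast_sub (by omega)]; norm_num
    rw [← this]
    exact_mod_cast hfx
  rw [he, Nat.cast_add] at hρ
  have hfq : (0 : ℚ) < (fx Ω t : ℚ) - 1 := by
    have : (2 : ℚ) ≤ fx Ω t := by exact_mod_cast hf2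
    linarith
  by_cases hL : Lin G a b
  · -- collinear
    exfalso
    have hcard : (Nat.card (centFour G a b t) : ℚ) = 4 * ((fx Ω t : ℚ) - 1) := by
      rw [D.centFour_lin F hL hfe, D.card_cent_stab ht, Nat.cast_mul,
        Nat.cast_sub (show 1 ≤ fx Ω t by omega)]
      norm_num
    rw [hcard] at hρ
    have hkey : ρ = 15 + (swapNum a b t : ℚ) * fx Ω t := by
      have h1 : (64 * ((fx Ω t : ℚ) - 1) ^ 3) * (ρ - (15 + (swapNum a b t : ℚ) * fx Ω t)) = 0 := by
        linear_combination (-1 : ℚ) * hρ + (64 * ((fx Ω t : ℚ) - 1) ^ 2) * hnq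
      rcases mul_eq_zero.1 h1 with h | h
      · exact absurd h (mul_ne_zero (by norm_num) (pow_ne_zero 3 hfq.ne'))
      · linarith
    have h15 := le_fifteen hρ1
    have hc0 : (1 : ℚ) ≤ swapNum a b t := by exact_mod_cast (D.base ht).swap_pos
    nlinarith
  -- twisted
  set sb : ↥(X Ω t) := bar F.comm with hsb
  have BX := D.baseX F hL
  have hee : Even (fx (W Ω t) sb) := BX.even_iff.1 hfe
  have he2 : 2 ≤ fx (W Ω t) sb := BX.two_le_fix
  obtain ⟨k, hk, hk1⟩ : ∃ k, fx (W Ω t) sb = 2 ^ k ∧ 1 ≤ k := by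
    obtain ⟨p, k, hp, hpk⟩ := BX.fix_prime_pow fun g hga hgb => D.fix_X_cases F hga hgb
    obtain rfl : p = 2 := ((Nat.prime_dvd_prime_iff_eq Nat.prime_two hp).1
      (Nat.prime_two.dvd_of_dvd_pow (hpk ▸ hee.two_dvd))).symm
    refine ⟨k, hpk, Nat.one_le_iff_ne_zero.2 fun h0 => ?_⟩
    rw [h0, pow_zero] at hpk
    rw [hsb] at he2
    omega
  have hcard : (Nat.card (centFour G a b t) : ℚ) = 4 * ((fx (W Ω t) sb : ℚ) - 1) := by
    rw [D.card_centFour F hL hee, Nat.cast_mul,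
      Nat.cast_sub (show 1 ≤ fx (W Ω t) sb by omega)]
    norm_num
  rw [hcard] at hρ
  have hfX := D.fixity_X F hL
  rw [← hsb] at hfX
  set d := fx (W Ω t) sb with hdd
  set c' := swapNum (pa F.t_inv) (pb F.t_inv) sb with hc'
  have hkey : (15 + (swapNum a b t : ℚ) * fx Ω t) * ((d : ℚ) - 1) ^ 2 =
      ρ * ((fx Ω t : ℚ) - 1) ^ 2 := by
    have h1 : (64 * ((fx Ω t : ℚ) - 1)) * ((15 + (swapNum a b t : ℚ) * fx Ω t) * ((d : ℚ) - 1) ^ 2 -
        ρ * ((fx Ω t : ℚ) - 1) ^ 2) = 0 := by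
      linear_combination hρ - (64 * ((d : ℚ) - 1) ^ 2) * hnq
    rcases mul_eq_zero.1 h1 with h | h
    · exact absurd h (mul_ne_zero (by norm_num) hfq.ne')
    · linarith
  have hd2 : (2 : ℚ) ≤ d := by exact_mod_cast he2
  have hcast : (((d : ℕ) - 1 : ℕ) : ℚ) = (d : ℚ) - 1 := by rw [Nat.cast_sub (by omega)]; norm_num
  have hone : c' = 1 → (fx Ω t : ℚ) = d ^ 2 ∧
      15 + (swapNum a b t : ℚ) * d ^ 2 = ρ * ((d : ℚ) + 1) ^ 2 := by
    intro h1
    have hf : (fx Ω t : ℚ) = d ^ 2 := by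
      rw [hfX, h1]; push_cast [hcast]; ring
    refine ⟨hf, ?_⟩
    rw [hf] at hkey
    have h1 : ((d : ℚ) - 1) ^ 2 *
        (15 + (swapNum a b t : ℚ) * d ^ 2 - ρ * ((d : ℚ) + 1) ^ 2) = 0 := by
      linear_combination hkey
    rcases mul_eq_zero.1 h1 with h | h
    · exact absurd h (pow_ne_zero 2 (by linarith))
    · linarith
  rcases D.swap_cases ht with ⟨j, hj, hc, hjt, -⟩ | ⟨j, hj, -, -, hnv⟩ | ⟨j, hj, hc, -⟩ |
    ⟨hS, hc, hall⟩
  · exfalso
    obtain ⟨-, h⟩ := hone (D.swapNum_X_fifteen F hL hj hjt)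
    rw [hc, hk] at h
    push_cast at h
    exact EvenNum.fifteen hρ1 hk1 (by linear_combination h)
  · exact absurd (D.lin_of_one ht hj hnv) hL
  · exfalso
    rcases D.swapNum_X_cases F hL with h1 | h1
    · obtain ⟨hf, h⟩ := hone h1
      rw [hc, hk] at h
      push_cast at h
      rw [hk] at hf
      rw [hc] at hfx
      rcases EvenNum.sixteen_one hρ1 hk1 (by linear_combination h) with rfl | rfl
      · have hf4 : fx Ω t = 4 := by
          norm_num at hf; exact_mod_cast hf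
        rw [hf4] at hfx
        omega
      · have hf64 : fx Ω t = 64 := by
          norm_num at hf; exact_mod_cast hf
        rw [hf64] at hfx
        omega
    · have hf : (fx Ω t : ℚ) = d + 2 * (d * ((d : ℚ) - 1)) := by
        rw [hfX, show c' = 2 from h1]; push_cast [hcast]; ring
      rw [hc, hf] at hkey
      push_cast at hkey
      have h0 : ((d : ℚ) - 1) ^ 2 * (15 + 16 * (d + 2 * (d * ((d : ℚ) - 1))) -
          ρ * (2 * (d : ℚ) + 1) ^ 2) = 0 := by
        linear_combination hkey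
      rcases mul_eq_zero.1 h0 with h | h
      · exact absurd h (pow_ne_zero 2 (by linarith))
      · exact EvenNum.sixteen_two hρ1 he2 hee (by linear_combination h)
  · obtain ⟨hf, h⟩ := hone (D.swapNum_X_ten F hL hS)
    have h4 : d ≤ 4 := D.le_four_of_ten F hL hS hfe
    rw [hc] at h hfx
    push_cast at h
    have hd24 : d = 2 ∨ d = 4 := by
      have hk3 : k < 3 := by
        by_contra hk3
        have : 2 ^ 3 ≤ 2 ^ k := Nat.pow_le_pow_right (by norm_num) (by omega)
        omega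
      interval_cases k <;> omega
    rcases hd24 with h2 | h2
    · rw [h2] at hf
      have hf4 : fx Ω t = 4 := by
        norm_num at hf; exact_mod_cast hf
      rw [hf4] at hfx
      exact ⟨hS, hall, hf4, by omega⟩
    · exact (EvenNum.ten hρ1 h2 (by linear_combination h)).elim

end Data

end Cfsg.Agent.Lib.TwoTransA5
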