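import Cfsg.Agent.Lib.TwoTransA5.Cases
import Cfsg.Agent.Lib.TwoTransA4.InvImage

/-!
# The permutation group induced by an involution centraliser on the fixed points
-/

set_option autoImplicit false
set_option linter.unusedSectionVars false

namespace Cfsg.Agent.Lib.TwoTransA5

open MulAction
open Cfsg.Agent.Lib.ConstFix25 (fx two_apply mul_self_of_orderOf ne_one_of_orderOf card_map_pair
  card_offDiag orderOf_conj)
open Cfsg.Agent.Lib.TwoTransA4 (Base InvH Sw orderOf_eq_two inv_eq_self pairNum swapNum W X cmap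
  mem_cent bar bar_smul bar_mul bar_one bar_inv bar_congr exists_bar bar_eq_one_iff bar_eq_iff
  faithfulX two_le_fx_of_fix exists_two_fixed even_moved conj_smul_smul conjClosed_invol)

variable {G Ω : Type*} [Group G] [MulAction G Ω]

namespace Data

variable {a b : Ω} (D : Data G Ω a b) {t s : G}

/-- The first base point among the fixed points. -/
def pa (ht : InvH a b t) : W Ω t := ⟨a, ht.2.2.1⟩

/-- The second base point among the fixed points. -/
def pb (ht : InvH a b t) : W Ω t := ⟨b, ht.2.2.2⟩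

include D

theorem pa_ne_pb (ht : InvH a b t) : pa ht ≠ pb ht := fun e => D.ne (congrArg Subtype.val e)

theorem two_X (ht : InvH a b t) : IsMultiplyPretransitive ↥(X Ω t) (W Ω t) 2 := by
  refine is_two_pretransitive_iff.2 ?_
  intro x y z w hxy hzw
  obtain ⟨g, hgt, hga, hgb⟩ := (D.base ht).cent_two (fun e => hxy (Subtype.ext e)) x.2 y.2
  obtain ⟨k, hkt, hka, hkb⟩ := (D.base ht).cent_two (fun e => hzw (Subtype.ext e)) z.2 w.2
  refine ⟨bar (hkt.mul_left hgt.inv_left), Subtype.ext ?_, Subtype.ext ?_⟩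
  · rw [bar_smul, mul_smul, ← hga, inv_smul_smul, hka]
  · rw [bar_smul, mul_smul, ← hgb, inv_smul_smul, hkb]

theorem card_stab_lin (ht : InvH a b t) (hL : Lin G a b) :
    Nat.card ↥(stabilizer ↥(X Ω t) (pa ht) ⊓ stabilizer ↥(X Ω t) (pb ht)) = 1 := by
  refine Nat.card_eq_one_iff_exists.2 ⟨1, fun x => Subtype.ext ?_⟩
  obtain ⟨g, hg, hgx⟩ := exists_bar x.1
  obtain ⟨s, F⟩ := D.exists_four ht
  show x.1 = 1
  rw [← hgx]
  refine (bar_eq_one_iff _).2 fun y hy => ?_
  have hsy : s • y = y := hL t s ht F.s_inv F.comm y hy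
  have hxa : x.1 • pa ht = pa ht := x.2.1
  have hxb : x.1 • pb ht = pb ht := x.2.2
  rw [← hgx] at hxa hxb
  rcases D.four F (v := g) (congrArg Subtype.val hxa) (congrArg Subtype.val hxb) hg with h | h | h | h <;>
    rw [h]
  · exact one_smul G y
  · exact hy
  · exact hsy
  · rw [mul_smul, hy, hsy]

theorem fix_X_lin (ht : InvH a b t) (hL : Lin G a b) {x : ↥(X Ω t)} (hxa : x • pa ht = pa ht)
    (hxb : x • pb ht = pb ht) : x = 1 := by
  haveI := (Nat.card_eq_one_iff_unique.1 (D.card_stab_lin ht hL)).1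
  exact congrArg Subtype.val (Subsingleton.elim
    (⟨x, hxa, hxb⟩ : ↥(stabilizer ↥(X Ω t) (pa ht) ⊓ stabilizer ↥(X Ω t) (pb ht))) 1)

theorem fix_X_cases (F : Four a b t s) {x : ↥(X Ω t)}
    (hxa : x • pa F.t_inv = pa F.t_inv) (hxb : x • pb F.t_inv = pb F.t_inv) :
    x = 1 ∨ x = bar F.comm := by
  obtain ⟨g, hg, rfl⟩ := exists_bar x
  rcases D.four F (v := g) (congrArg Subtype.val hxa) (congrArg Subtype.val hxb) hg
    with h | h | h | h
  · exact Or.inl ((bar_eq_one_iff _).2 fun y _ => by rw [h, one_smul])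
  · exact Or.inl ((bar_eq_one_iff _).2 fun y hy => by rw [h, hy])
  · exact Or.inr (bar_congr _ _ h)
  · exact Or.inr ((bar_eq_iff _ _).2 fun y hy => by rw [h, mul_smul, hy])

theorem bar_ne_one [Finite Ω] (F : Four a b t s) (hL : ¬ Lin G a b) :
    (bar F.comm : ↥(X Ω t)) ≠ 1 := fun e => hL (D.lin_of_subset F ((bar_eq_one_iff _).1 e))

theorem bar_sq (F : Four a b t s) :
    (bar F.comm : ↥(X Ω t)) * bar F.comm = 1 := by
  rw [← bar_mul]
  exact (bar_eq_one_iff _).2 fun y _ => by rw [F.s_inv.1, one_smul]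

theorem baseX [Finite Ω] (F : Four a b t s) (hL : ¬ Lin G a b) :
    Base ↥(X Ω t) (W Ω t) (pa F.t_inv) (pb F.t_inv) (bar F.comm) := by
  have hne := D.bar_ne_one F hL
  refine ⟨inferInstance, D.two_X F.t_inv, D.pa_ne_pb F.t_inv, orderOf_eq_two (D.bar_sq F) hne,
    Subtype.ext F.s_inv.2.2.1, Subtype.ext F.s_inv.2.2.2,
    fun u hu hua hub => ⟨1, one_smul _ _, one_smul _ _, ?_⟩⟩
  rcases D.fix_X_cases F hua hub with h | h
  · exact absurd h (ne_one_of_orderOf hu)
  · rw [h, one_mul, inv_one, mul_one]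

theorem pairNum_X [Finite Ω] (F : Four a b t s) (hL : ¬ Lin G a b) :
    pairNum ↥(X Ω t) (pa F.t_inv) (pb F.t_inv) = 1 := by
  have B := D.baseX F hL
  refine Nat.card_eq_one_iff_exists.2 ⟨⟨_, B.invol, B.fix_a, B.fix_b⟩, fun u => Subtype.ext ?_⟩
  exact (D.fix_X_cases F u.2.2.1 u.2.2.2).resolve_left (ne_one_of_orderOf u.2.1)

theorem card_stab_X [Finite Ω] (F : Four a b t s) (hL : ¬ Lin G a b) :
    Nat.card ↥(stabilizer ↥(X Ω t) (pa F.t_inv) ⊓ stabilizer ↥(X Ω t) (pb F.t_inv)) = 2 := by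
  have B := D.baseX F hL
  refine Nat.card_eq_two_iff.2 ⟨1, ⟨_, B.fix_a, B.fix_b⟩, ?_, ?_⟩
  · exact fun e => ne_one_of_orderOf B.invol (congrArg Subtype.val e).symm
  · refine Set.eq_univ_iff_forall.2 fun x => ?_
    rcases D.fix_X_cases F x.2.1 x.2.2 with h | h
    · exact Or.inl (Subtype.ext h)
    · exact Or.inr (Subtype.ext h)

theorem card_swappers (ht : InvH a b t) :
    Nat.card {x : ↥(X Ω t) // x • pa ht = pb ht ∧ x • pb ht = pa ht} =
      Nat.card ↥(stabilizer ↥(X Ω t) (pa ht) ⊓ stabilizer ↥(X Ω t) (pb ht)) :=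
  card_map_pair (D.two_X ht) (D.pa_ne_pb ht) (D.pa_ne_pb ht).symm

theorem card_X_lin [Finite G] [Finite Ω] (ht : InvH a b t) (hL : Lin G a b) :
    Nat.card ↥(X Ω t) = fx Ω t * (fx Ω t - 1) := by
  rw [Cfsg.Agent.Lib.ConstFix25.card_group (D.two_X ht) (D.pa_ne_pb ht), card_offDiag,
    D.card_stab_lin ht hL, mul_one]
  rfl

theorem card_X [Finite G] [Finite Ω] (F : Four a b t s) (hL : ¬ Lin G a b) :
    Nat.card ↥(X Ω t) = 2 * (fx Ω t * (fx Ω t - 1)) := by
  rw [Cfsg.Agent.Lib.ConstFix25.card_group (D.two_X F.t_inv) (D.pa_ne_pb F.t_inv), card_offDiag,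
    D.card_stab_X F hL, mul_comm]
  rfl

/-- A centralising element fixing all fixed points of `t`. -/
theorem kernel [Finite Ω] (F : Four a b t s) (hL : ¬ Lin G a b) {m : G} (hm : Commute m t)
    (hfix : ∀ x : Ω, t • x = x → m • x = x) : m = 1 ∨ m = t := by
  rcases D.four F (hfix a F.t_inv.2.2.1) (hfix b F.t_inv.2.2.2) hm with h | h | h | h
  · exact Or.inl h
  · exact Or.inr h
  · exact absurd (D.lin_of_subset F fun x hx => h ▸ hfix x hx) hL
  · refine absurd (D.lin_of_subset F fun x hx => ?_) hL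
    have := hfix x hx
    rwa [h, mul_smul, hx] at this

theorem swapNum_X_le [Finite G] [Finite Ω] (F : Four a b t s) (hL : ¬ Lin G a b) :
    swapNum (pa F.t_inv) (pb F.t_inv) (bar F.comm : ↥(X Ω t)) ≤ 2 := by
  rw [← D.card_stab_X F hL, ← D.card_swappers F.t_inv]
  refine Nat.card_le_card_of_injective (fun u => ⟨u.1, u.2.2, ?_⟩)
    (fun u v h => Subtype.ext (congrArg Subtype.val h :))
  have h2 := (D.baseX F hL).orderOf_class u.2.1
  obtain ⟨u, hu1, hu2⟩ := u
  show u • pb F.t_inv = pa F.t_inv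
  rw [← hu2, ← mul_smul, mul_self_of_orderOf h2, one_smul]

theorem swapNum_X_cases [Finite G] [Finite Ω] (F : Four a b t s) (hL : ¬ Lin G a b) :
    swapNum (pa F.t_inv) (pb F.t_inv) (bar F.comm : ↥(X Ω t)) = 1 ∨
      swapNum (pa F.t_inv) (pb F.t_inv) (bar F.comm : ↥(X Ω t)) = 2 := by
  have h1 := (D.baseX F hL).swap_pos
  have h2 := D.swapNum_X_le F hL
  omega

/-- Both members of the fibre over a conjugate are class members. -/
theorem class_of_bar_conj [Finite G] [Finite Ω] (F : Four a b t s) (hL : ¬ Lin G a b) {g : G}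
    (hg : Commute g t) (h : IsConj (bar F.comm : ↥(X Ω t)) (bar hg)) :
    IsConj t g ∧ IsConj t (g * t) := by
  obtain ⟨c, hc⟩ := isConj_iff.1 h
  obtain ⟨k, hk, rfl⟩ := exists_bar c
  rw [← bar_inv, ← bar_mul, ← bar_mul, bar_eq_iff] at hc
  have hcom : Commute (k * s * k⁻¹) t := (hk.mul_left F.comm).mul_left hk.inv_left
  set m := (k * s * k⁻¹)⁻¹ * g with hm
  have hfix : ∀ x : Ω, t • x = x → m • x = x := fun x hx => by
    rw [hm, mul_smul, inv_smul_eq_iff, hc x hx]
  have e : g = k * s * k⁻¹ * m := by rw [hm]; group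
  have h1 : IsConj t (k * s * k⁻¹) :=
    (D.conj_invH F.t_inv F.s_inv).trans (isConj_iff.2 ⟨k, rfl⟩)
  have h2 : IsConj t (k * s * k⁻¹ * t) := by
    refine (D.conj_invH F.t_inv (D.mul_invH F)).trans (isConj_iff.2 ⟨k, ?_⟩)
    calc k * (s * t) * k⁻¹ = k * s * (t * k⁻¹) := by group
      _ = _ := by rw [← hk.inv_left.eq]; group
  rcases D.kernel F hL (m := m) (hcom.inv_left.mul_left hg) hfix with h' | h'
  · rw [h', mul_one] at e
    rw [e]
    exact ⟨h1, h2⟩
  · rw [h'] at e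
    rw [e, mul_assoc (k * s * k⁻¹) t t, F.t_inv.1, mul_one]
    exact ⟨h2, h1⟩

theorem swapper_class [Finite G] [Finite Ω] (F : Four a b t s) (hL : ¬ Lin G a b)
    {u : ↥(X Ω t)} (hu : IsConj (bar F.comm : ↥(X Ω t)) u) (hua : u • pa F.t_inv = pb F.t_inv) :
    u • pb F.t_inv = pa F.t_inv := by
  rw [← hua, ← mul_smul, mul_self_of_orderOf ((D.baseX F hL).orderOf_class hu), one_smul]

/-- Every swapper of the induced group is in the class when two are. -/
theorem bar_conj_of_two [Finite G] [Finite Ω] (F : Four a b t s) (hL : ¬ Lin G a b)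
    (h2 : swapNum (pa F.t_inv) (pb F.t_inv) (bar F.comm : ↥(X Ω t)) = 2) {g : G}
    (hg : Commute g t) (hga : g • a = b) (hgb : g • b = a) :
    IsConj (bar F.comm : ↥(X Ω t)) (bar hg) := by
  let ι : {u : ↥(X Ω t) // IsConj (bar F.comm : ↥(X Ω t)) u ∧ u • pa F.t_inv = pb F.t_inv} →
      {u : ↥(X Ω t) // u • pa F.t_inv = pb F.t_inv ∧ u • pb F.t_inv = pa F.t_inv} :=
    fun u => ⟨u.1, u.2.2, D.swapper_class F hL u.2.1 u.2.2⟩
  obtain ⟨u, hu⟩ := ((Nat.bijective_iff_injective_and_card ι).2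
    ⟨fun u v h => Subtype.ext (congrArg Subtype.val h :), by
      rw [D.card_swappers F.t_inv, D.card_stab_X F hL]; exact h2⟩).2
    ⟨bar hg, Subtype.ext hga, Subtype.ext hgb⟩
  have e : u.1 = bar hg := congrArg Subtype.val hu
  exact e ▸ u.2.1

/-- A centralising swapper `g` with `g` or `g t` outside the class leaves one swapper in the class. -/
theorem swapNum_X_eq_one [Finite G] [Finite Ω] (F : Four a b t s) (hL : ¬ Lin G a b) {g : G}
    (hg : Commute g t) (hga : g • a = b) (hgb : g • b = a)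
    (hnot : ¬ (IsConj t g ∧ IsConj t (g * t))) :
    swapNum (pa F.t_inv) (pb F.t_inv) (bar F.comm : ↥(X Ω t)) = 1 :=
  (D.swapNum_X_cases F hL).resolve_right fun h2 =>
    hnot (D.class_of_bar_conj F hL hg (D.bar_conj_of_two F hL h2 hg hga hgb))

theorem swapNum_X_fifteen [Finite G] [Finite Ω] (F : Four a b t s) (hL : ¬ Lin G a b) {j : G}
    (hj : CaseA a b j) (hjt : ¬ IsConj t j) :
    swapNum (pa F.t_inv) (pb F.t_inv) (bar F.comm : ↥(X Ω t)) = 1 :=
  D.swapNum_X_eq_one F hL (hj.2 t F.t_inv.2.2.1 F.t_inv.2.2.2) hj.1.2 hj.1.swap fun h => hjt h.1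

theorem swapNum_X_ten [Finite G] [Finite Ω] (F : Four a b t s) (hL : ¬ Lin G a b)
    (hS : SwapFacts G a b) :
    swapNum (pa F.t_inv) (pb F.t_inv) (bar F.comm : ↥(X Ω t)) = 1 := by
  obtain ⟨τ, hτ, hτt, hτs⟩ := hS.exists_sw t s F
  refine D.swapNum_X_eq_one F hL (g := τ * s) (hτt.mul_left F.comm)
    (by rw [mul_smul, F.s_inv.2.2.1, hτ.2]) (by rw [mul_smul, F.s_inv.2.2.2, hτ.swap]) fun h => ?_
  have hsq := mul_self_of_orderOf ((D.base F.t_inv).orderOf_class h.1)
  have e : τ * s * (τ * s) = t := by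
    calc τ * s * (τ * s) = (τ * s * τ⁻¹) * s := by rw [inv_eq_self hτ.1]; group
      _ = s * (t * s) := by rw [hτs, mul_assoc]
      _ = t := by rw [← F.comm.eq, ← mul_assoc, F.s_inv.1, one_mul]
  exact F.t_inv.2.1 (e.symm.trans hsq)

/-- With one class member swapping the pair the fixed points of commuting involutions coincide. -/
theorem lin_of_one [Finite G] [Finite Ω] {j : G} (ht : InvH a b t) (hj : CaseA a b j)
    (hnv : ∀ v : G, InvH a b v → ¬ IsConj t (j * v)) : Lin G a b := by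
  by_contra hL
  obtain ⟨s, F⟩ := D.exists_four ht
  obtain ⟨⟨u, hu, hua⟩⟩ := (Nat.card_pos_iff.1 (D.baseX F hL).swap_pos).1
  obtain ⟨g, hg, rfl⟩ := exists_bar u
  have hga : g • a = b := congrArg Subtype.val hua
  have hgb : g • b = a := congrArg Subtype.val (D.swapper_class F hL hu hua)
  obtain ⟨hka, hkb, hk, -⟩ := D.caseA_mul hj hga hgb
  have hkt : Commute (j * g) t := (hj.2 t ht.2.2.1 ht.2.2.2).mul_left hg
  obtain ⟨h1, h2⟩ := D.class_of_bar_conj F hL hg hu
  rcases D.four F hka hkb hkt with e | e | e | e <;> rw [hk, e] at h1 h2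
  · rw [mul_one] at h2; exact hnv t ht h2
  · exact hnv t ht h1
  · exact hnv s F.s_inv h1
  · exact hnv (s * t) (D.mul_invH F) h1

/-- The fixity equation of the induced group. -/
theorem fixity_X [Finite G] [Finite Ω] (F : Four a b t s) (hL : ¬ Lin G a b) :
    fx Ω t = fx (W Ω t) (bar F.comm : ↥(X Ω t)) +
      swapNum (pa F.t_inv) (pb F.t_inv) (bar F.comm : ↥(X Ω t)) *
        (fx (W Ω t) (bar F.comm : ↥(X Ω t)) *
          (fx (W Ω t) (bar F.comm : ↥(X Ω t)) - 1)) := by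
  have B := D.baseX F hL
  have h := B.fixity
  rw [D.pairNum_X F hL, one_mul] at h
  have hlt : fx (W Ω t) (bar F.comm : ↥(X Ω t)) < fx Ω t := B.fix_lt
  change fx Ω t - _ = _ at h
  omega

theorem swap_sq [Finite G] (ht : InvH a b t) {g : G} (hg : Commute g t) (hga : g • a = b)
    (hgb : g • b = a) : g * g = 1 ∨ g * g = t := by
  rcases D.dichotomy with ⟨j, hj⟩ | hS
  · exact Or.inl (D.caseA_sq hj ht hga hgb hg)
  · exact (D.swapFacts hS).sq t g ht hga hgb hg

theorem swapX_sq [Finite G] (ht : InvH a b t) {x : ↥(X Ω t)} (hxa : x • pa ht = pb ht)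
    (hxb : x • pb ht = pa ht) : x * x = 1 := by
  obtain ⟨g, hg, rfl⟩ := exists_bar x
  rw [← bar_mul]
  rcases D.swap_sq ht hg (congrArg Subtype.val hxa) (congrArg Subtype.val hxb) with h | h
  · exact (bar_eq_one_iff _).2 fun y _ => by rw [h, one_smul]
  · exact (bar_eq_one_iff _).2 fun y hy => by rw [h, hy]

/-- In the collinear odd case an involution of the induced group fixes one point. -/
theorem bar_fx_lin [Finite G] [Finite Ω] (ht : InvH a b t) (hL : Lin G a b)
    (hodd : Odd (fx Ω t)) (u : ↥(X Ω t)) (hu : orderOf u = 2) : fx (W Ω t) u = 1 := by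
  have hle : fx (W Ω t) u ≤ 1 := by
    by_contra h
    obtain ⟨p, q, hpq, hp, hq⟩ := exists_two_fixed (u := u) (Ω := W Ω t) (by omega)
    obtain ⟨g, hga, hgb⟩ := two_apply (D.two_X ht) (D.pa_ne_pb ht) hpq
    have h1 := D.fix_X_lin ht hL (x := g⁻¹ * u * g⁻¹⁻¹)
      (by rw [inv_inv, mul_smul, mul_smul, hga, hp, ← hga, inv_smul_smul])
      (by rw [inv_inv, mul_smul, mul_smul, hgb, hq, ← hgb, inv_smul_smul])
    exact ne_one_of_orderOf hu (conj_eq_one_iff.1 h1)
  by_contra h1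
  have hev := even_moved (Ω := W Ω t) hu
  rw [show fx (W Ω t) u = 0 by omega, Nat.sub_zero] at hev
  exact Nat.not_even_iff_odd.2 hodd hev

/-- One involution of the induced group swaps the pair. -/
theorem bar_swap_lin [Finite G] [Finite Ω] (ht : InvH a b t) (hL : Lin G a b) :
    Nat.card {u : ↥(X Ω t) // orderOf u = 2 ∧ u • pa ht = pb ht} = 1 := by
  rw [← D.card_stab_lin ht hL, ← D.card_swappers ht]
  refine Nat.card_congr (Equiv.subtypeEquivRight fun u => ⟨fun h => ⟨h.2, ?_⟩, fun h => ⟨?_, h.1⟩⟩)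
  · rw [← h.2, ← mul_smul, mul_self_of_orderOf h.1, one_smul]
  · exact orderOf_eq_two (D.swapX_sq ht h.1 h.2) fun e => D.pa_ne_pb ht (by rw [← h.1, e, one_smul])

/-- In the collinear odd case commuting involutions induce the same permutation. -/
theorem bar_eq_lin [Finite G] [Finite Ω] (ht : InvH a b t) (hL : Lin G a b)
    (hodd : Odd (fx Ω t)) {x y : ↥(X Ω t)} (hx : orderOf x = 2) (hy : orderOf y = 2)
    (hxy : Commute x y) : x = y :=
  TwoTransA4.eq_of_commute conjClosed_invol (D.two_X ht) (D.pa_ne_pb ht)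
    (D.bar_fx_lin ht hL hodd) (D.bar_swap_lin ht hL) hx hy hxy

/-- Two involutions of the induced group fixing the same point are equal. -/
theorem bar_unique_lin [Finite G] [Finite Ω] (ht : InvH a b t) (hL : Lin G a b)
    (hodd : Odd (fx Ω t)) {x y : ↥(X Ω t)} (hx : orderOf x = 2) (hy : orderOf y = 2) {p : W Ω t}
    (hp : x • p = p) (hq : y • p = p) : x = y :=
  (TwoTransA4.unique_point conjClosed_invol (D.two_X ht) (D.pa_ne_pb ht)
    (D.bar_fx_lin ht hL hodd) (D.bar_swap_lin ht hL) p).unique ⟨hx, hp⟩ ⟨hy, hq⟩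

end Data

end Cfsg.Agent.Lib.TwoTransA5
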