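import Cfsg.Agent.Lib.TwoTransA5.SevenPoints

/-!
# Doubly transitive groups with pair stabiliser `A₅` and without regular normal subgroup
-/

set_option autoImplicit false
set_option linter.unusedSectionVars false

namespace Cfsg.Agent.Lib.TwoTransA5

open MulAction

variable {G Ω : Type*} [Group G] [MulAction G Ω]

theorem Data.main [Finite G] [Finite Ω] {a b : Ω} (D : Data G Ω a b) (hnr : NoRegular G Ω) :
    (Nat.card Ω = 7 ∧ Nonempty (G ≃* ↥(alternatingGroup (Fin 7)))) ∨
      (Nat.card Ω = 12 ∧ Cfsg.Spor.IsoM11 G) := by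
  obtain ⟨t, ht⟩ := D.exists_invol
  rcases Nat.even_or_odd (Nat.card Ω) with heven | hodd
  · exact Or.inr (D.iso_eleven hnr ht heven)
  rcases D.swap_cases ht with ⟨j, hj, -, hjt, hv⟩ | ⟨j, hj, -, hjt, -⟩ | ⟨j, hj, -, hjt, -⟩ |
    ⟨hS, hc, hall⟩
  · exact (D.fifteen_odd_false hnr ht hj hjt hv hodd).elim
  · exact (D.sixteen_odd_false ht hj hjt hodd).elim
  · exact (D.sixteen_odd_false ht hj hjt hodd).elim
  · exact Or.inl (D.iso_seven hnr ht hS hc hall hodd)

end Cfsg.Agent.Lib.TwoTransA5
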