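import Cfsg.Agent.Lib.TwoTransA5.Twelve
import Cfsg.Agent.Lib.TwoTransA4.OddThree
import Cfsg.Agent.Lib.TwoTransA4.OddTwisted

/-!
# Odd degree, a swapping involution centralising the pair stabiliser: impossible

Either that involution is isolated, or the pair stabiliser acts faithfully on its fixed points, where
commuting involutions of the pair stabiliser contradict the structure of the induced group.
-/

set_option autoImplicit false
set_option linter.unusedSectionVars false

namespace Cfsg.Agent.Lib.TwoTransA5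

open MulAction
open Cfsg.Agent.Lib.ConstFix25 (fx two_apply mul_self_of_orderOf ne_one_of_orderOf orderOf_of_isConj
  exists_moved)
open Cfsg.Agent.Lib.TwoTransA4 (Base InvH Sw orderOf_eq_two inv_eq_self pairNum swapNum W X cmap
  bar bar_smul bar_mul bar_congr exists_bar bar_eq_one_iff bar_eq_iff faithfulX pretransitive)

variable {G Ω : Type*} [Group G] [MulAction G Ω]

namespace Data

variable {a b : Ω} (D : Data G Ω a b)
include D

/-- Outside the class an involution fixes exactly one point in odd degree. -/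
theorem fx_outside [Finite Ω] {t u : G} (ht : InvH a b t) (hu : orderOf u = 2)
    (hnot : ¬ IsConj t u) (hodd : Odd (Nat.card Ω)) : fx Ω u = 1 := by
  haveI := D.faithful
  have hle : fx Ω u ≤ 1 := by
    by_contra h
    exact hnot ((D.base ht).mem_class_iff.2 ⟨hu, by omega⟩)
  have hev := TwoTransA4.even_moved (Ω := Ω) hu
  by_contra h1
  rw [show fx Ω u = 0 by omega, Nat.sub_zero] at hev
  exact Nat.not_even_iff_odd.2 hodd hev

theorem fifteen_odd_false [Finite G] [Finite Ω] (hnr : NoRegular G Ω) {t j : G} (ht : InvH a b t)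
    (hj : CaseA a b j) (hjt : ¬ IsConj t j) (hv : ∀ v : G, InvH a b v → IsConj t (j * v))
    (hodd : Odd (Nat.card Ω)) : False := by
  classical
  haveI := D.faithful
  haveI : Nontrivial Ω := ⟨⟨a, b, D.ne⟩⟩
  haveI := pretransitive D.two
  have hjo := hj.1.orderOf D.ne
  have hk : ∀ u : G, IsConj j u → fx Ω u = 1 := fun u hu =>
    D.fx_outside ht ((orderOf_of_isConj hu).trans hjo) (fun h => hjt (h.trans hu.symm)) hodd
  have h1 : Nat.card {u : G // IsConj j u ∧ u • a = b} = 1 := by
    refine Nat.card_eq_one_iff_exists.2 ⟨⟨j, IsConj.refl j, hj.1.2⟩, ?_⟩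
    rintro ⟨u, hu, hua⟩
    obtain ⟨k, hka, hkb, hk2, rfl⟩ := D.caseA_swap hj (u := u)
      ⟨mul_self_of_orderOf ((orderOf_of_isConj hu).trans hjo), hua⟩
    by_cases h : k = 1
    · exact Subtype.ext (by show j * k = j; rw [h, mul_one])
    · exact absurd ((hv k ⟨hk2, h, hka, hkb⟩).trans hu.symm) hjt
  have hiso : Cfsg.IsIsolatedInvolution j := ⟨hjo, fun g hg =>
    (TwoTransA4.eq_of_commute (TwoTransA4.conjClosed_isConj j) D.two D.ne hk h1 (IsConj.refl j)
      (isConj_iff.2 ⟨g, rfl⟩) hg).symm⟩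
  have hC := TwoTransA4.sup_eq_top_of_isolated hiso
  rw [oddCore_eq_bot D.two D.ne hnr, sup_bot_eq] at hC
  have hf := hk j (IsConj.refl j)
  rw [fx] at hf
  obtain ⟨⟨x, hx⟩, huniq⟩ := Nat.card_eq_one_iff_exists.1 hf
  obtain ⟨y, hy⟩ := exists_ne x
  obtain ⟨g, hg⟩ := exists_smul_eq G x y
  have hgj : g * j = j * g :=
    Subgroup.mem_centralizer_singleton_iff.1 (hC.symm ▸ Subgroup.mem_top g)
  exact hy (congrArg Subtype.val (huniq ⟨y, by rw [← hg, ← mul_smul, ← hgj, mul_smul, hx]⟩))

/-- The pair stabiliser in the centraliser of a conjugate of `t` gives a contradiction. -/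
theorem sixteen_odd_false [Finite G] [Finite Ω] {t j : G} (ht : InvH a b t) (hj : CaseA a b j)
    (hjt : IsConj t j) (hodd : Odd (Nat.card Ω)) : False := by
  classical
  obtain ⟨c, d, D', hj'⟩ := D.exists_data_of_class ht hjt
  have B := D'.base hj'
  have hfo : Odd (fx Ω j) := Nat.not_even_iff_odd.1 fun h =>
    Nat.not_even_iff_odd.2 hodd (B.even_iff.2 h)
  set H := stabilizer G a ⊓ stabilizer G b with hH
  have hHj : ∀ h : ↥H, Commute (h : G) j := fun h => (hj.2 h h.2.1 h.2.2).symm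
  let ι : ↥H →* ↥(X Ω j) :=
    { toFun := fun h => bar (hHj h)
      map_one' := (bar_eq_one_iff _).2 fun x _ => by rw [OneMemClass.coe_one, one_smul]
      map_mul' := fun h k => by rw [← bar_mul] }
  obtain ⟨t', F⟩ := D.exists_four ht
  obtain ⟨s', F'⟩ := D'.exists_four hj'
  -- the pair stabiliser acts faithfully
  have hι : Function.Injective ι := by
    rw [← MonoidHom.ker_eq_bot_iff]
    obtain ⟨e⟩ := D.alt
    haveI : Nontrivial ↥H := ⟨⟨⟨t, D.mem ht.2.2.1 ht.2.2.2⟩, 1,
      fun e => ht.2.1 (congrArg Subtype.val e)⟩⟩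
    haveI : IsSimpleGroup ↥H :=
      IsSimpleGroup.isSimpleGroup_of_surjective e.symm.toMonoidHom e.symm.surjective
    refine ((inferInstance : ι.ker.Normal).eq_bot_or_eq_top).resolve_right fun htop => ?_
    have hle : H ≤ fourSub G c d j := by
      intro g hg
      have hk : ι ⟨g, hg⟩ = 1 := (MonoidHom.mem_ker).1 (htop.symm ▸ Subgroup.mem_top _)
      have hfix := (bar_eq_one_iff (hHj ⟨g, hg⟩)).1 hk
      exact mem_fourSub.2 ⟨hfix c hj'.2.2.1, hfix d hj'.2.2.2, hHj ⟨g, hg⟩⟩
    have h := Nat.le_of_dvd Nat.card_pos (Subgroup.card_dvd_of_le hle)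
    rw [D'.card_fourSub F', D.card_H] at h
    omega
  let tH : ↥H := ⟨t, D.mem ht.2.2.1 ht.2.2.2⟩
  let sH : ↥H := ⟨t', D.mem F.s_inv.2.2.1 F.s_inv.2.2.2⟩
  have ho : ∀ v : ↥H, InvH a b (v : G) → orderOf (ι v) = 2 := fun v hv => by
    rw [orderOf_injective ι hι, ← Subgroup.orderOf_coe]; exact hv.orderOf
  have hne : ι sH ≠ ι tH := fun e => F.ne (congrArg Subtype.val (hι e))
  have hcom : Commute (ι sH) (ι tH) := by
    show _ * _ = _ * _
    rw [← map_mul, ← map_mul]
    exact congrArg ι (Subtype.ext F.comm.eq)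
  by_cases hL : Lin G c d
  · exact hne (D'.bar_eq_lin hj' hL hfo (ho sH F.s_inv) (ho tH ht) hcom)
  have BX := D'.baseX F' hL
  have hp1 := D'.pairNum_X F' hL
  rcases D'.swapNum_X_cases F' hL with hc1 | hc2
  · have hsq : ∀ u : ↥(X Ω j), u • pa F'.t_inv = pb F'.t_inv → u • pb F'.t_inv = pa F'.t_inv →
        u * u = 1 := fun u h h' => D'.swapX_sq hj' h h'
    have h2 : Nat.card {u : ↥(X Ω j) // u • pa F'.t_inv = pb F'.t_inv ∧
        u • pb F'.t_inv = pa F'.t_inv} = 2 := by
      rw [D'.card_swappers F'.t_inv, D'.card_stab_X F' hL]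
    have houtside : ∀ x y : ↥(X Ω j), orderOf x = 2 → orderOf y = 2 → Commute x y →
        ¬ IsConj (bar F'.comm : ↥(X Ω j)) x → ¬ IsConj (bar F'.comm : ↥(X Ω j)) y → x = y :=
      fun x y hx hy hxy hxn hyn => BX.outside_eq hfo hc1 hsq h2 hx hxn hy hyn hxy
    have hconj : ∀ v : ↥H, InvH a b (v : G) → IsConj (ι tH) (ι v) := by
      intro v hv
      obtain ⟨g, hga, hgb, hg⟩ := D.conj ht hv
      refine isConj_iff.2 ⟨ι ⟨g, D.mem hga hgb⟩, ?_⟩
      rw [← map_inv, ← map_mul, ← map_mul]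
      exact congrArg ι (Subtype.ext hg)
    by_cases htc : IsConj (bar F'.comm : ↥(X Ω j)) (ι tH)
    · have hout := BX.mul_outside hp1 hc1 (htc.trans (hconj sH F.s_inv)) htc hne hcom
      rw [← map_mul] at hout
      exact hout (htc.trans (hconj (sH * tH) (D.mul_invH F)))
    · exact hne (houtside _ _ (ho sH F.s_inv) (ho tH ht) hcom
        (fun h => htc (h.trans (hconj sH F.s_inv).symm)) htc)
  · exact BX.twisted_false hp1 hc2 (fun g hga hgb => D'.fix_X_cases F' hga hgb)
      (fun g hga hgb => D'.swapX_sq hj' hga hgb) hfo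

end Data

end Cfsg.Agent.Lib.TwoTransA5
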