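import Cfsg.Agent.Lib.TwoTransA5.OddA
import Cfsg.Agent.Lib.PGroups.MaximalClass

/-!
# Odd degree in the case `S₅`: a dihedral Sylow two-subgroup

The centraliser of a four group of the pair stabiliser swaps no two of its common fixed points, so
the four group is self-centralising in a Sylow two-subgroup, which then has maximal class; two
square roots of the central involution with commuting images agree on its fixed points, so the
Sylow subgroup is dihedral.
-/

set_option autoImplicit false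
set_option linter.unusedSectionVars false

namespace Cfsg.Agent.Lib.TwoTransA5

open MulAction
open Cfsg.Agent.Lib.ConstFix25 (fx two_apply mul_self_of_orderOf ne_one_of_orderOf orderOf_conj)
open Cfsg.Agent.Lib.TwoTransA4 (Base InvH Sw orderOf_eq_two inv_eq_self pairNum swapNum W X
  bar bar_smul bar_mul bar_congr exists_bar bar_eq_one_iff bar_eq_iff faithfulX conj_smul_smul)

universe u v

variable {G : Type u} {Ω : Type v} [Group G] [MulAction G Ω]

theorem conj_back {k g : G} {a x y : Ω} (hka : k • a = x) (hgx : g • x = y) :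
    (k⁻¹ * g * k⁻¹⁻¹) • a = k⁻¹ • y := by
  rw [inv_inv, mul_smul, mul_smul, hka, hgx]

theorem InvH_conj {k t : G} {a b x y : Ω} (hka : k • a = x) (hkb : k • b = y) (h : InvH x y t) :
    InvH a b (k⁻¹ * t * k⁻¹⁻¹) := by
  refine ⟨?_, fun e => h.2.1 (conj_eq_one_iff.1 e), ?_, ?_⟩
  · rw [show k⁻¹ * t * k⁻¹⁻¹ * (k⁻¹ * t * k⁻¹⁻¹) = k⁻¹ * (t * t) * k by group, h.1]
    group
  · rw [conj_back hka h.2.2.1, ← hka, inv_smul_smul]
  · rw [conj_back hkb h.2.2.2, ← hkb, inv_smul_smul]

theorem Four.swap {a b : Ω} {t s : G} (F : Four a b t s) : Four a b s t :=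
  ⟨F.s_inv, F.t_inv, F.ne.symm, F.comm.symm⟩

theorem Four.conj {k t s : G} {a b x y : Ω} (hka : k • a = x) (hkb : k • b = y)
    (F : Four x y t s) : Four a b (k⁻¹ * t * k⁻¹⁻¹) (k⁻¹ * s * k⁻¹⁻¹) :=
  ⟨InvH_conj hka hkb F.t_inv, InvH_conj hka hkb F.s_inv,
    fun e => F.ne (mul_left_cancel (mul_right_cancel e)), by
      show k⁻¹ * s * k⁻¹⁻¹ * (k⁻¹ * t * k⁻¹⁻¹) = k⁻¹ * t * k⁻¹⁻¹ * (k⁻¹ * s * k⁻¹⁻¹)
      calc k⁻¹ * s * k⁻¹⁻¹ * (k⁻¹ * t * k⁻¹⁻¹) = k⁻¹ * (s * t) * k := by group
        _ = k⁻¹ * (t * s) * k := by rw [F.comm.eq]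
        _ = _ := by group⟩

namespace Data

variable {a b : Ω} (D : Data G Ω a b)
include D

/-- The centraliser of a four group swaps no two of its common fixed points. -/
theorem no_swap (hS : SwapFacts G a b) {t s g : G} (F : Four a b t s) (hgt : Commute g t)
    (hgs : Commute g s) {x y : Ω} (hxy : x ≠ y) (htx : t • x = x) (hty : t • y = y)
    (hsx : s • x = x) (hsy : s • y = y) (hgx : g • x = y) (hgy : g • y = x) : False := by
  obtain ⟨k, hka, hkb⟩ := two_apply D.two D.ne hxy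
  have F' : Four x y t s := ⟨⟨F.t_inv.1, F.t_inv.2.1, htx, hty⟩,
    ⟨F.s_inv.1, F.s_inv.2.1, hsx, hsy⟩, F.ne, F.comm⟩
  have hcomm : ∀ v : G, Commute g v →
      Commute (k⁻¹ * g * k⁻¹⁻¹) (k⁻¹ * v * k⁻¹⁻¹) := by
    intro v hv
    show k⁻¹ * g * k⁻¹⁻¹ * (k⁻¹ * v * k⁻¹⁻¹) = k⁻¹ * v * k⁻¹⁻¹ * (k⁻¹ * g * k⁻¹⁻¹)
    calc k⁻¹ * g * k⁻¹⁻¹ * (k⁻¹ * v * k⁻¹⁻¹) = k⁻¹ * (g * v) * k := by group
      _ = k⁻¹ * (v * g) * k := by rw [hv.eq]
      _ = _ := by group
  exact hS.not_comm _ _ (k⁻¹ * g * k⁻¹⁻¹) (F'.conj hka hkb)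
    (by rw [conj_back hka hgx, ← hkb, inv_smul_smul])
    (by rw [conj_back hkb hgy, ← hka, inv_smul_smul]) (hcomm t hgt) (hcomm s hgs)

/-- The centraliser of the four group moves the pair to any pair of common fixed points. -/
theorem pair_move (hS : SwapFacts G a b) {t s : G} (F : Four a b t s) {x y : Ω} (hxy : x ≠ y)
    (htx : t • x = x) (hty : t • y = y) (hsx : s • x = x) (hsy : s • y = y) :
    ∃ g : G, Commute g t ∧ Commute g s ∧
      ((g • a = x ∧ g • b = y) ∨ (g • a = y ∧ g • b = x)) := by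
  obtain ⟨k, hka, hkb⟩ := two_apply D.two D.ne hxy
  have F' : Four x y t s := ⟨⟨F.t_inv.1, F.t_inv.2.1, htx, hty⟩,
    ⟨F.s_inv.1, F.s_inv.2.1, hsx, hsy⟩, F.ne, F.comm⟩
  have FF := F'.conj hka hkb
  obtain ⟨h, hha, hhb, hh⟩ := D.conj F.t_inv FF.t_inv
  have hia : h⁻¹ • a = a := by rw [inv_smul_eq_iff, hha]
  have hib : h⁻¹ • b = b := by rw [inv_smul_eq_iff, hhb]
  set g0 := k * h with hg0
  have ht0 : g0 * t * g0⁻¹ = t := by
    calc g0 * t * g0⁻¹ = k * (h * t * h⁻¹) * k⁻¹ := by rw [hg0]; group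
      _ = t := by rw [hh]; group
  have hg0t : Commute g0 t := mul_inv_eq_iff_eq_mul.1 ht0
  have hga : g0 • a = x := by rw [hg0, mul_smul, hha, hka]
  have hgb : g0 • b = y := by rw [hg0, mul_smul, hhb, hkb]
  set v := g0⁻¹ * s * g0⁻¹⁻¹ with hv
  have hva : v • a = a := by rw [hv, conj_back hga hsx, ← hga, inv_smul_smul]
  have hvb : v • b = b := by rw [hv, conj_back hgb hsy, ← hgb, inv_smul_smul]
  have hvt : Commute v t := (hg0t.inv_left.mul_left F.comm).mul_left hg0t.inv_left.inv_left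
  have hs' : g0 * v * g0⁻¹ = s := by rw [hv]; group
  rcases D.four F hva hvb hvt with e | e | e | e
  · rw [e, mul_one, mul_inv_cancel] at hs'
    exact absurd hs'.symm F.s_inv.2.1
  · rw [e, ht0] at hs'
    exact absurd hs'.symm F.ne
  · rw [e] at hs'
    exact ⟨g0, hg0t, mul_inv_eq_iff_eq_mul.1 hs', Or.inl ⟨hga, hgb⟩⟩
  · rw [e] at hs'
    obtain ⟨τ, hτ, hτt, hτs⟩ := hS.exists_sw t s F
    refine ⟨g0 * τ, hg0t.mul_left hτt, mul_inv_eq_iff_eq_mul.1 ?_,
      Or.inr ⟨by rw [mul_smul, hτ.2, hgb], by rw [mul_smul, hτ.swap, hga]⟩⟩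
    calc g0 * τ * s * (g0 * τ)⁻¹ = g0 * (τ * s * τ⁻¹) * g0⁻¹ := by group
      _ = s := by rw [hτs, hs']

/-- In odd degree a four group has a third common fixed point. -/
theorem third_point [Finite G] [Finite Ω] {t s : G} (F : Four a b t s) (hodd : Odd (Nat.card Ω)) :
    ∃ q : Ω, q ≠ a ∧ q ≠ b ∧ t • q = q ∧ s • q = q := by
  classical
  have B := D.base F.t_inv
  have hfo : Odd (fx Ω t) := Nat.not_even_iff_odd.1 fun h =>
    Nat.not_even_iff_odd.2 hodd (B.even_iff.2 h)
  have key : ∀ (P : Ω → Prop), P a → P b → Odd (Nat.card {x : Ω // P x}) →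
      ∃ q : Ω, q ≠ a ∧ q ≠ b ∧ P q := by
    intro P hPa hPb hP
    by_contra! h
    have h2 : Nat.card {x : Ω // P x} = 2 := by
      refine Nat.card_eq_two_iff.2 ⟨⟨a, hPa⟩, ⟨b, hPb⟩, fun e => D.ne (congrArg Subtype.val e), ?_⟩
      refine Set.eq_univ_iff_forall.2 fun x => ?_
      by_cases hxa : x.1 = a
      · exact Or.inl (Subtype.ext hxa)
      by_cases hxb : x.1 = b
      · exact Or.inr (Subtype.ext hxb)
      exact absurd x.2 (h x.1 hxa hxb)
    rw [h2] at hP
    exact absurd hP (by decide)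
  by_cases hL : Lin G a b
  · obtain ⟨q, hqa, hqb, hq⟩ := key (fun x => t • x = x) F.t_inv.2.2.1 F.t_inv.2.2.2 hfo
    exact ⟨q, hqa, hqb, hq, hL t s F.t_inv F.s_inv F.comm q hq⟩
  · have BX := D.baseX F hL
    have hdo : Odd (fx (W Ω t) (bar F.comm : ↥(X Ω t))) := Nat.not_even_iff_odd.1 fun h =>
      Nat.not_even_iff_odd.2 hfo (BX.even_iff.2 h)
    obtain ⟨q, hqa, hqb, hq⟩ := key (fun x => t • x = x ∧ s • x = x)
      ⟨F.t_inv.2.2.1, F.s_inv.2.2.1⟩ ⟨F.t_inv.2.2.2, F.s_inv.2.2.2⟩ (by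
        have e : fx (W Ω t) (bar F.comm : ↥(X Ω t)) =
            Nat.card {x : Ω // t • x = x ∧ s • x = x} :=
          Nat.card_congr
            { toFun := fun x => ⟨x.1.1, x.1.2, congrArg Subtype.val x.2⟩
              invFun := fun x => ⟨⟨x.1, x.2.1⟩, Subtype.ext x.2.2⟩
              left_inv := fun x => rfl
              right_inv := fun x => rfl }
        rwa [e] at hdo)
    exact ⟨q, hqa, hqb, hq.1, hq.2⟩

/-- An element of two-power order centralising the four group lies in it. -/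
theorem cent_two_elt (hS : SwapFacts G a b) {t s : G} (F : Four a b t s) :
    ∀ (k : ℕ) (x : G), x ^ 2 ^ k = 1 → Commute x t → Commute x s → x ∈ fourSub G a b t := by
  intro k
  induction k with
  | zero =>
    intro x hx _ _
    rw [pow_zero, pow_one] at hx
    rw [hx]
    exact one_mem _
  | succ k ih =>
    intro x hx hxt hxs
    have h2 : x * x ∈ fourSub G a b t := by
      refine ih (x * x) ?_ (hxt.mul_left hxt) (hxs.mul_left hxs)
      rw [← pow_two, ← pow_mul, ← pow_succ', hx]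
    by_contra hnot
    by_cases hall : ∀ q : Ω, t • q = q → s • q = q → x • q = q
    · exact hnot (mem_fourSub.2 ⟨hall a F.t_inv.2.2.1 F.s_inv.2.2.1,
        hall b F.t_inv.2.2.2 F.s_inv.2.2.2, hxt⟩)
    push_neg at hall
    obtain ⟨q, hqt, hqs, hxq⟩ := hall
    have hfix : (x * x) • q = q := by
      rcases (D.mem_four F).1 h2 with e | e | e | e <;> rw [e]
      · exact one_smul G q
      · exact hqt
      · exact hqs
      · rw [mul_smul, hqt, hqs]
    exact D.no_swap hS F hxt hxs (Ne.symm hxq) hqt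
      (by rw [← mul_smul, ← hxt.eq, mul_smul, hqt]) hqs
      (by rw [← mul_smul, ← hxs.eq, mul_smul, hqs]) rfl (by rw [← mul_smul, hfix])

/-- Square roots of `t` with commuting images agree on the fixed points. -/
theorem roots_eq [Finite G] [Finite Ω] (hS : SwapFacts G a b) {t s U V : G} (F : Four a b t s)
    (hodd : Odd (Nat.card Ω)) (hU : Commute U t) (hV : Commute V t) (hU2 : U * U = t)
    (hV2 : V * V = t) (hc : Commute (bar hU : ↥(X Ω t)) (bar hV)) :
    (bar hU : ↥(X Ω t)) = bar hV := by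
  have B := D.base F.t_inv
  have hfo : Odd (fx Ω t) := Nat.not_even_iff_odd.1 fun h =>
    Nat.not_even_iff_odd.2 hodd (B.even_iff.2 h)
  have ho : ∀ {g : G} (hg : Commute g t), g * g = t → orderOf (bar hg : ↥(X Ω t)) = 2 := by
    intro g hg hg2
    refine orderOf_eq_two ?_ fun e => F.t_inv.2.1 ?_
    · rw [← bar_mul]
      exact (bar_eq_one_iff _).2 fun y hy => by rw [hg2, hy]
    · have hfix := (bar_eq_one_iff hg).1 e
      rw [← hg2, D.sq_one_of_commute F.t_inv (hfix a F.t_inv.2.2.1) (hfix b F.t_inv.2.2.2) hg]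
  by_cases hL : Lin G a b
  · exact D.bar_eq_lin F.t_inv hL hfo (ho hU hU2) (ho hV hV2) hc
  have BX := D.baseX F hL
  have hout : ∀ {g : G} (hg : Commute g t), g * g = t →
      ¬ IsConj (bar F.comm : ↥(X Ω t)) (bar hg) := by
    intro g hg hg2 h
    obtain ⟨h1, -⟩ := D.class_of_bar_conj F hL hg h
    exact F.t_inv.2.1 (hg2.symm.trans (mul_self_of_orderOf (B.orderOf_class h1)))
  exact BX.outside_eq hfo (D.swapNum_X_ten F hL hS) (fun u h h' => D.swapX_sq F.t_inv h h')
    (by rw [D.card_swappers F.t_inv, D.card_stab_X F hL]) (ho hU hU2) (hout hU hU2) (ho hV hV2)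
    (hout hV hV2) hc

/-- A Sylow two-subgroup with centre containing an involution of the pair stabiliser. -/
theorem exists_central [Finite G] (hS : SwapFacts G a b) {t : G} (ht : InvH a b t) :
    ∃ (t' s' : G) (S : Sylow 2 G), Four a b t' s' ∧ t' ∈ (S : Subgroup G) ∧
      s' ∈ (S : Subgroup G) ∧ ∀ x ∈ (S : Subgroup G), Commute x t' := by
  haveI : Fact (Nat.Prime 2) := ⟨Nat.prime_two⟩
  obtain ⟨s, F⟩ := D.exists_four ht
  have hp : IsPGroup 2 ↥(fourSub G a b t) :=
    IsPGroup.of_card (n := 2) (by rw [D.card_fourSub F]; norm_num)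
  obtain ⟨S, hle⟩ := hp.exists_le_sylow
  have htS : t ∈ (S : Subgroup G) := hle ((D.mem_four F).2 (Or.inr (Or.inl rfl)))
  have hsS : s ∈ (S : Subgroup G) := hle ((D.mem_four F).2 (Or.inr (Or.inr (Or.inl rfl))))
  haveI : Nontrivial ↥(S : Subgroup G) :=
    ⟨⟨⟨t, htS⟩, 1, fun e => ht.2.1 (congrArg Subtype.val e)⟩⟩
  have hnt : Nontrivial (Subgroup.center ↥(S : Subgroup G)) := S.isPGroup'.center_nontrivial
  obtain ⟨⟨z, hz⟩, hz1⟩ := exists_ne (1 : Subgroup.center ↥(S : Subgroup G))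
  have hzc : ∀ x ∈ (S : Subgroup G), Commute x (z : G) := fun x hx =>
    congrArg Subtype.val (Subgroup.mem_center_iff.1 hz ⟨x, hx⟩)
  obtain ⟨k, hk⟩ := IsPGroup.iff_orderOf.1 S.isPGroup' z
  have hzV : (z : G) ∈ fourSub G a b t :=
    D.cent_two_elt hS F k z (by rw [← hk, Subgroup.orderOf_coe z |>.symm, pow_orderOf_eq_one])
      (hzc t htS).symm (hzc s hsS).symm
  rcases (D.mem_four F).1 hzV with e | e | e | e
  · exact absurd (Subtype.ext (Subtype.ext e)) hz1
  · exact ⟨t, s, S, F, htS, hsS, e ▸ hzc⟩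
  · exact ⟨s, t, S, F.swap, hsS, htS, e ▸ hzc⟩
  · refine ⟨s * t, t, S, ⟨D.mul_invH F, ht, fun h => F.s_inv.2.1 (mul_eq_right.1 h.symm),
      F.comm.symm.mul_right (Commute.refl t)⟩, mul_mem hsS htS, htS, e ▸ hzc⟩

/-- The Sylow two-subgroup is dihedral and generated by its involutions. -/
theorem sylow_dihedral [Finite G] [Finite Ω] (hS : SwapFacts G a b) (hodd : Odd (Nat.card Ω))
    {t s : G} {S : Sylow 2 G} (F : Four a b t s) (htS : t ∈ (S : Subgroup G))
    (hsS : s ∈ (S : Subgroup G)) (hct : ∀ x ∈ (S : Subgroup G), Commute x t) :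
    (∃ m : ℕ, 2 ≤ m ∧ Nonempty ((S : Subgroup G) ≃* DihedralGroup m)) ∧
      ∀ N : Subgroup G, (∀ u : G, orderOf u = 2 → u ∈ N) → (S : Subgroup G) ≤ N := by
  classical
  haveI : Fact (Nat.Prime 2) := ⟨Nat.prime_two⟩
  obtain ⟨k, hk⟩ := IsPGroup.iff_card.1 S.isPGroup'
  have hk3 : 3 ≤ k := by
    have h8 : 2 ^ 3 ∣ Nat.card G := by
      obtain ⟨r, hr⟩ := hodd
      exact ⟨15 * ((2 * r + 1) * r), by rw [D.card_group, hr, Nat.add_sub_cancel]; ring⟩
    have h1 := S.card_eq_multiplicity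
    rw [hk] at h1
    rw [Nat.pow_right_injective le_rfl h1]
    exact (Nat.prime_two.pow_dvd_iff_le_factorization Nat.card_pos.ne').1 h8
  haveI : Group.IsNilpotent ↥(S : Subgroup G) := S.isPGroup'.isNilpotent
  have hle : fourSub G a b t ≤ (S : Subgroup G) := fun g hg => by
    rcases (D.mem_four F).1 hg with rfl | rfl | rfl | rfl
    exacts [one_mem _, htS, hsS, mul_mem hsS htS]
  set A := (fourSub G a b t).subgroupOf (S : Subgroup G) with hA
  have hA4 : Nat.card A = 2 ^ 2 := by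
    rw [Nat.card_congr (Subgroup.subgroupOfEquivOfLe hle).toEquiv, D.card_fourSub F]
    norm_num
  have hAc : Subgroup.centralizer (A : Set ↥(S : Subgroup G)) = A := by
    refine le_antisymm (fun x hx => ?_) fun x hx y hy => Subtype.ext ?_
    · obtain ⟨j, hj⟩ := IsPGroup.iff_orderOf.1 S.isPGroup' x
      exact D.cent_two_elt hS F j x
        (by rw [← hj, ← Subgroup.orderOf_coe, pow_orderOf_eq_one])
        (congrArg Subtype.val (hx ⟨t, htS⟩ ((D.mem_four F).2 (Or.inr (Or.inl rfl))))).symm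
        (congrArg Subtype.val (hx ⟨s, hsS⟩ ((D.mem_four F).2 (Or.inr (Or.inr (Or.inl rfl)))))).symm
    · have hx' : (x : G) ∈ fourSub G a b t := hx
      have hy' : (y : G) ∈ fourSub G a b t := hy
      have hp := D.sq_four F (mul_mem hy' hx')
      calc (y : G) * x = ((y : G) * x)⁻¹ := (inv_eq_self hp).symm
        _ = x * y := by
          rw [mul_inv_rev, inv_eq_self (D.sq_four F hx'), inv_eq_self (D.sq_four F hy')]
  have hclass := PGroups.class_of_self_centralizing_sq k A hk hA4 hAc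
  have hidx : (commutator ↥(S : Subgroup G)).index = 4 := by
    rw [PGroups.index_commutator_of_class k (by omega) hk hclass]; norm_num
  obtain ⟨C, hC, hCi⟩ := PGroups.exists_cyclic_index_two k hk3 hk hidx
  obtain ⟨c, hc⟩ := (C.isCyclic_iff_exists_zpowers_eq_top).1 hC
  have hcC : c ∈ C := hc ▸ Subgroup.mem_zpowers c
  have hcard : 2 ^ k = 2 * 2 ^ (k - 1) := by rw [← pow_succ']; congr 1; omega
  have hco : orderOf c = 2 ^ (k - 1) := by
    have h := C.card_mul_index
    rw [hCi, hk, hcard] at h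
    rw [← Nat.card_zpowers, hc]
    omega
  have hZ2 := PGroups.card_center_eq_two hk3 hk hidx
  let T : ↥(S : Subgroup G) := ⟨t, htS⟩
  have hTc : T ∈ Subgroup.center ↥(S : Subgroup G) :=
    Subgroup.mem_center_iff.2 fun g => Subtype.ext (hct g g.2).eq
  have hT1 : T ≠ 1 := fun e => F.t_inv.2.1 (congrArg Subtype.val e)
  have hcenter : ∀ w ∈ Subgroup.center ↥(S : Subgroup G), w = 1 ∨ w = T := by
    intro w hw
    by_contra hne
    push_neg at hne
    obtain ⟨x, y, hxy, huniv⟩ := Nat.card_eq_two_iff.1 hZ2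
    have h1 : ∀ z : Subgroup.center ↥(S : Subgroup G), z = x ∨ z = y := fun z => by
      simpa using Set.eq_univ_iff_forall.1 huniv z
    rcases h1 1 with e1 | e1 <;> rcases h1 ⟨T, hTc⟩ with e2 | e2 <;>
      rcases h1 ⟨w, hw⟩ with e3 | e3
    all_goals first
      | exact hT1 (congrArg Subtype.val (e2.trans e1.symm))
      | exact hne.1 (congrArg Subtype.val (e3.trans e1.symm))
      | exact hne.2 (congrArg Subtype.val (e3.trans e2.symm))
  obtain ⟨y₀, hy₀⟩ : ∃ y, y ∉ C := by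
    by_contra! h
    have hC' : C = ⊤ := eq_top_iff.2 fun x _ => h x
    rw [hC', Subgroup.index_top] at hCi
    omega
  have hfixed : ∀ y ∉ C, ∀ w ∈ C, Commute w y → w = 1 ∨ w = T := fun y hy w hw hwy =>
    hcenter w (by
      rw [PGroups.center_eq_fixed hk3 hk hidx C hC hCi y hy]
      exact ⟨hw, Subgroup.mem_centralizer_singleton_iff.2 hwy.eq⟩)
  have hTC : T ∈ C := by
    have h := hTc
    rw [PGroups.center_eq_fixed hk3 hk hidx C hC hCi y₀ hy₀] at h
    exact h.1
  -- the elements of order four of the cyclic subgroup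
  set z := c ^ 2 ^ (k - 3) with hzdef
  have hzC : z ∈ C := pow_mem hcC _
  have hz4 : orderOf z = 4 := by
    rw [hzdef, orderOf_pow, hco, Nat.gcd_eq_right (pow_dvd_pow 2 (by omega)),
      Nat.pow_div (by omega) (by norm_num), show k - 1 - (k - 3) = 2 by omega]
  have hpow : ∀ w ∈ C, w ^ 4 = 1 → w = 1 ∨ w = z ∨ w = z * z ∨ w = z * z * z := by
    intro w hw hw4
    rw [← hc] at hw
    obtain ⟨i, rfl⟩ := mem_powers_iff_mem_zpowers.2 hw
    simp only at hw4 ⊢
    rw [← pow_mul, ← orderOf_dvd_iff_pow_eq_one, hco,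
      show 2 ^ (k - 1) = 2 ^ (k - 3) * 4 by
        rw [show k - 1 = k - 3 + 2 by omega, pow_add]; norm_num] at hw4
    obtain ⟨r, rfl⟩ := Nat.dvd_of_mul_dvd_mul_right (by norm_num) hw4
    rw [pow_mul, ← hzdef, ← pow_mod_orderOf, hz4]
    rcases (show r % 4 = 0 ∨ r % 4 = 1 ∨ r % 4 = 2 ∨ r % 4 = 3 by omega) with h | h | h | h <;>
      rw [h]
    · exact Or.inl (pow_zero z)
    · exact Or.inr (Or.inl (pow_one z))
    · exact Or.inr (Or.inr (Or.inl (pow_two z)))
    · exact Or.inr (Or.inr (Or.inr (by rw [pow_succ, pow_two])))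
  have hz_ne : z * z ≠ 1 := fun e => by
    have := orderOf_le_of_pow_eq_one (x := z) two_pos (by rw [pow_two]; exact e)
    omega
  have hz44 : z * z * (z * z) = 1 := by
    have h := pow_orderOf_eq_one z
    rw [hz4, show 4 = 2 * 2 by norm_num, pow_mul, pow_two, pow_two] at h
    exact h
  have hTT : T * T = 1 := Subtype.ext F.t_inv.1
  have hzz : z * z = T := by
    have hT4 : T ^ 4 = 1 := by rw [show 4 = 2 * 2 by norm_num, pow_mul, show T ^ 2 = 1 from (pow_two T).trans hTT, one_pow]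
    rcases hpow T hTC hT4 with e | e | e | e
    · exact absurd e hT1
    · exact absurd (by rw [← e]; exact hTT) hz_ne
    · exact e.symm
    · refine absurd ?_ hz_ne
      calc z * z = (z * z * (z * z)) * (z * z) := by rw [hz44, one_mul]
        _ = T * T := by rw [e]; group
        _ = 1 := hTT
  have hconjz : ∀ y ∉ C, y * z * y⁻¹ = z * T := by
    intro y hy
    haveI : C.Normal := Subgroup.normal_of_index_eq_two hCi
    have hw : y * z * y⁻¹ ∈ C := ‹C.Normal›.conj_mem z hzC y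
    have hw4 : (y * z * y⁻¹) ^ 4 = 1 := by
      rw [conj_pow, ← hz4, pow_orderOf_eq_one]; group
    rcases hpow _ hw hw4 with e | e | e | e
    · exact absurd (by rw [conj_eq_one_iff.1 e, one_mul]) hz_ne
    · exfalso
      rcases hfixed y hy z hzC (mul_inv_eq_iff_eq_mul.1 e).symm with h | h
      · exact hz_ne (by rw [h, one_mul])
      · exact hz_ne (by rw [h, hTT])
    · exfalso
      refine hz_ne ?_
      have e' : z = T := by
        calc z = y⁻¹ * (y * z * y⁻¹) * y := by group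
          _ = y⁻¹ * (T * y) := by rw [e, hzz, mul_assoc]
          _ = T := by rw [← Subgroup.mem_center_iff.1 hTc y, inv_mul_cancel_left]
      rw [e', hTT]
    · rw [e, mul_assoc z z z, hzz]
  -- elements outside are involutions
  have hsq : ∀ y ∉ C, y * y = 1 := by
    intro y hy
    have hyy : y * y ∈ C := Subgroup.mul_self_mem_of_index_two hCi y
    refine (hfixed y hy _ hyy ((Commute.refl y).mul_left (Commute.refl y))).resolve_right fun hT => ?_
    have hyt : Commute (y : G) t := hct y y.2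
    have hzt : Commute (z : G) t := hct z z.2
    have hbar : Commute (bar hyt : ↥(X Ω t)) (bar hzt) := by
      show _ * _ = _ * _
      rw [← bar_mul, ← bar_mul, bar_eq_iff]
      intro x hx
      have e : (y : G) * z = (z : G) * t * y := congrArg Subtype.val
        (mul_inv_eq_iff_eq_mul.1 (hconjz y hy))
      rw [e, mul_smul, mul_smul, mul_smul, ← mul_smul t, ← hyt.eq, mul_smul, hx]
    have heq := D.roots_eq hS F hodd hyt hzt (congrArg Subtype.val hT :) (congrArg Subtype.val hzz :)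
      hbar
    rw [bar_eq_iff] at heq
    set m := z⁻¹ * y with hm
    have hmfix : ∀ x : Ω, t • x = x → (m : G) • x = x := fun x hx => by
      rw [hm, Subgroup.coe_mul, Subgroup.coe_inv, mul_smul, inv_smul_eq_iff, heq x hx]
    have hmt : Commute (m : G) t := hct m m.2
    have hm2 : m * m = 1 := Subtype.ext (D.sq_one_of_commute F.t_inv (hmfix a F.t_inv.2.2.1)
      (hmfix b F.t_inv.2.2.2) hmt)
    have hmC : m ∉ C := fun h => hy (by
      have := mul_mem hzC h
      rwa [hm, mul_inv_cancel_left] at this)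
    apply hT1
    calc T = y * y := hT.symm
      _ = z * (m * z * m⁻¹) * (m * m) := by rw [hm]; group
      _ = z * z * T := by rw [hconjz m hmC, hm2, mul_one, mul_assoc]
      _ = 1 := by rw [hzz, hTT]
  constructor
  · haveI : NeZero (2 ^ (k - 1)) := ⟨(pow_pos two_pos _).ne'⟩
    refine ⟨2 ^ (k - 1), ?_, TwoGroups.Recognition.nonempty_dihedral hco (hsq y₀ hy₀) ?_ ?_ ?_⟩
    · calc 2 = 2 ^ 1 := by norm_num
        _ ≤ 2 ^ (k - 1) := Nat.pow_le_pow_right (by norm_num) (by omega)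
    · have hyc : y₀ * c ∉ C := fun h => hy₀ (by
        have := mul_mem h (inv_mem hcC)
        rwa [mul_inv_cancel_right] at this)
      refine eq_inv_of_mul_eq_one_left ?_
      rw [inv_eq_self (hsq y₀ hy₀), mul_assoc]
      exact hsq _ hyc
    · rw [hc]; exact hy₀
    · rw [hk, hcard]
  · intro N hN x hx
    have hinv : ∀ y : ↥(S : Subgroup G), y ∉ C → (y : G) ∈ N := fun y hy => by
      refine hN _ (orderOf_eq_two (congrArg Subtype.val (hsq y hy)) fun e => hy ?_)
      rw [show y = 1 from Subtype.ext e]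
      exact one_mem _
    by_cases h : (⟨x, hx⟩ : ↥(S : Subgroup G)) ∈ C
    · have h' : y₀ * ⟨x, hx⟩ ∉ C := fun h'' => hy₀ (by
        have := mul_mem h'' (inv_mem h)
        rwa [mul_inv_cancel_right] at this)
      have h1 := mul_mem (hinv y₀ hy₀) (hinv _ h')
      have e : (y₀ : G) * ((y₀ * ⟨x, hx⟩ : ↥(S : Subgroup G)) : G) = x := by
        show (y₀ : G) * ((y₀ : G) * x) = x
        rw [← mul_assoc, show (y₀ : G) * y₀ = 1 from congrArg Subtype.val (hsq y₀ hy₀), one_mul]
      rwa [e] at h1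
    · exact hinv _ h

end Data

end Cfsg.Agent.Lib.TwoTransA5
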