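import Cfsg.Agent.Lib.TwoTransA4.FourRatio

/-!
# The order ratio with the character degrees exposed

`|G| |C(V)|² = ρ |C(J)|³`, where either `ρ (k+1)² = 4k(2k+1)` with `k ≡ 1 (mod 4)`, or
`ρ` is given by two degrees `x, y ≡ 3 (mod 4)`.
-/

set_option autoImplicit false

namespace Cfsg.Agent.Lib.TwoTransA5

universe u

/-- The plus case. -/
def RatioPos (ρ : ℚ) : Prop :=
  ∃ k : ℕ, k % 4 = 1 ∧ ρ * ((k : ℚ) + 1) ^ 2 = 4 * (k : ℚ) * (2 * k + 1)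

/-- The minus case, in terms of `a = x - 1`, `b = y - 1`. -/
def RatioNeg (ρ : ℚ) : Prop :=
  ∃ a b : ℕ, a % 4 = 2 ∧ b % 4 = 2 ∧
    ρ * (((a : ℚ) + b + 2) * (a * b)) = 8 * (((a : ℚ) + b + 1) * ((a + 1) * (b + 1)))

/-- The ratio. -/
theorem ratio {G : Type u} [Group G] [Finite G] (P : Sylow 2 G) (hP : IsKleinFour (P : Subgroup G))
    (hone : ∀ s t : G, orderOf s = 2 → orderOf t = 2 → IsConj s t) {J : G}
    (hJ : J ∈ (P : Subgroup G)) (hJ2 : orderOf J = 2) :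
    ∃ ρ : ℚ, (Nat.card G : ℚ) *
        (Nat.card (Subgroup.centralizer ((P : Subgroup G) : Set G)) : ℚ) ^ 2 =
        ρ * (Nat.card (Subgroup.centralizer ({J} : Set G)) : ℚ) ^ 3 ∧
      (RatioPos ρ ∨ RatioNeg ρ) := by
  haveI : Fact (Nat.Prime 2) := ⟨Nat.prime_two⟩
  obtain ⟨M, hM⟩ := Cfsg.Agent.Lib.Blocks.exists_isPModular 2 Nat.prime_two
  obtain ⟨ζ₂, ζ₃, ζ₄, ε, hε, hn2, hn3, h23, h24, h34, hB, hval, hd2, hd3, hd4, hrel⟩ :=
    Cfsg.Agent.S0948.result M hM P hP hone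
  obtain ⟨g₀, hg⟩ : 4 ∣ Nat.card G := hP.card_four ▸ Subgroup.card_subgroup_dvd_card _
  have hg₀ : Odd g₀ := by
    have h := P.not_dvd_index
    have hi := Subgroup.card_mul_index (P : Subgroup G)
    rw [hP.card_four, hg] at hi
    rw [show (P : Subgroup G).index = g₀ by omega] at h
    exact Nat.odd_iff.2 (by omega)
  obtain ⟨e2, e3, e4⟩ := hval J hJ2
  have hn4 : (ζ₄ : G → ℂ) ≠ fun _ => 1 := fun h => by
    rw [h] at e4
    norm_num at e4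
  obtain ⟨n, D⟩ := Cfsg.Agent.Lib.KleinBlock.exists_data M hM g₀ hg₀ hg
    (TwoTransA4.no_complement P hP hone hg₀ hg) P J hJ hJ2 ζ₂ ζ₃ ζ₄ 1 ε (-1) hB
    ⟨hn2, hn3, hn4, h23, h24, h34⟩ ⟨Or.inl rfl, hε, Or.inr rfl⟩
    ⟨by rw [e2]; simp, e3, by rw [e4]; simp⟩
  have hf := D.formula
  have p2 : 0 < Cfsg.charDegree (ζ₂ : G → ℂ) := Cfsg.Agent.Lib.Blocks.charDegree_pos ζ₂
  have p3 : 0 < Cfsg.charDegree (ζ₃ : G → ℂ) := Cfsg.Agent.Lib.Blocks.charDegree_pos ζ₃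
  have p4 : 0 < Cfsg.charDegree (ζ₄ : G → ℂ) := Cfsg.Agent.Lib.Blocks.charDegree_pos ζ₄
  have hr : (1 : ℤ) + (Cfsg.charDegree (ζ₂ : G → ℂ) : ℤ) +
      ε * Cfsg.charDegree (ζ₃ : G → ℂ) - Cfsg.charDegree (ζ₄ : G → ℂ) = 0 := by
    have h := hrel 1 (by simp)
    simp only [Cfsg.Agent.Lib.Blocks.char_one_eq_degree] at h
    exact_mod_cast h
  have hcP : (Nat.card (Subgroup.centralizer ((P : Subgroup G) : Set G)) : ℚ) ≠ 0 :=
    Nat.cast_ne_zero.2 Nat.card_pos.ne'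
  set x₁ := Cfsg.charDegree (ζ₂ : G → ℂ)
  set x₂ := Cfsg.charDegree (ζ₃ : G → ℂ)
  set x₃ := Cfsg.charDegree (ζ₄ : G → ℂ)
  refine ⟨8 * (((x₁ : ℚ) * x₂ * x₃) / ((x₁ + (1 : ℤ)) * (x₂ + ε) * (x₃ + (-1 : ℤ)))), ?_, ?_⟩
  · rw [hf, div_mul_cancel₀ _ (pow_ne_zero 2 hcP)]
  rcases hε with rfl | rfl
  · have heq : x₁ = x₂ := D.degree_eq rfl rfl rfl
    have h3 : x₃ = 2 * x₁ + 1 := by omega
    refine Or.inl ⟨x₁, by omega, ?_⟩
    have e1 : (x₁ : ℚ) ≠ 0 := Nat.cast_ne_zero.2 p2.ne'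
    have e2 : (x₁ : ℚ) + 1 ≠ 0 := by positivity
    rw [← heq, h3]
    push_cast
    rw [show (2 * (x₁ : ℚ) + 1 + -1) = 2 * x₁ by ring]
    field_simp
    ring
  · obtain ⟨a, ha⟩ : ∃ a, x₂ = a + 1 := ⟨x₂ - 1, by omega⟩
    obtain ⟨b, hb⟩ : ∃ b, x₃ = b + 1 := ⟨x₃ - 1, by omega⟩
    refine Or.inr ⟨a, b, by omega, by omega, ?_⟩
    have h1 : x₁ = a + b + 1 := by omega
    have e0 : (a : ℚ) + b + 1 + 1 ≠ 0 := by positivity
    have ea : (a : ℚ) ≠ 0 := Nat.cast_ne_zero.2 (by omega)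
    have eb : (b : ℚ) ≠ 0 := Nat.cast_ne_zero.2 (by omega)
    rw [h1, ha, hb]
    push_cast
    rw [show (a : ℚ) + 1 + -1 = a by ring, show (b : ℚ) + 1 + -1 = b by ring]
    field_simp
    ring

/-- The plus case: the ratio is three or at least `55/9`, below eight. -/
theorem pos_bounds {ρ : ℚ} (h : RatioPos ρ) : ρ < 8 ∧ (ρ = 3 ∨ 55 / 9 ≤ ρ) := by
  obtain ⟨k, hk, e⟩ := h
  have hk1 : (1 : ℚ) ≤ k := by exact_mod_cast (show 1 ≤ k by omega)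
  refine ⟨by nlinarith, ?_⟩
  rcases Nat.lt_or_ge k 5 with h5 | h5
  · obtain rfl : k = 1 := by omega
    left
    norm_num at e
    linarith
  · right
    have h5' : (5 : ℚ) ≤ k := by exact_mod_cast h5
    by_contra hlt
    have := mul_lt_mul_of_pos_right (not_le.1 hlt) (by positivity : (0 : ℚ) < ((k : ℚ) + 1) ^ 2)
    nlinarith

/-- The minus case: three ranges. -/
theorem neg_bounds {ρ : ℚ} (h : RatioNeg ρ) : 8 < ρ ∧
    (ρ < 51 / 5 ∨ ρ = 15 ∨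
      ∃ y : ℕ, y % 4 = 2 ∧ 6 ≤ y ∧ (ρ - 12) * (((y : ℚ) + 2) ^ 2 - 4) = 36 ∧ ρ ≤ 63 / 5) := by
  obtain ⟨a, b, ha, hb, e⟩ := h
  have ha2 : (2 : ℚ) ≤ a := by exact_mod_cast (show 2 ≤ a by omega)
  have hb2 : (2 : ℚ) ≤ b := by exact_mod_cast (show 2 ≤ b by omega)
  have hpos : (0 : ℚ) < ((a : ℚ) + b + 2) * (a * b) := by positivity
  refine ⟨?_, ?_⟩
  · by_contra hle
    push_neg at hle
    have h1 := mul_le_mul_of_nonneg_right hle hpos.le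
    rw [e] at h1
    nlinarith
  have sym : ∀ a b : ℕ, a = 2 → b % 4 = 2 →
      ρ * (((a : ℚ) + b + 2) * (a * b)) = 8 * (((a : ℚ) + b + 1) * ((a + 1) * (b + 1))) →
      ρ = 15 ∨
        ∃ y : ℕ, y % 4 = 2 ∧ 6 ≤ y ∧ (ρ - 12) * (((y : ℚ) + 2) ^ 2 - 4) = 36 ∧ ρ ≤ 63 / 5 := by
    rintro a b rfl hb e
    rcases Nat.lt_or_ge b 6 with h6 | h6
    · obtain rfl : b = 2 := by omega
      left
      norm_num at e
      linarith
    · right
      have h6' : (6 : ℚ) ≤ b := by exact_mod_cast h6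
      refine ⟨b, hb, h6, ?_, ?_⟩
      · push_cast at e
        linear_combination (1 / 2 : ℚ) * e
      · push_cast at e
        by_contra hlt
        have := mul_lt_mul_of_pos_right (not_le.1 hlt)
          (by positivity : (0 : ℚ) < (2 + (b : ℚ) + 2) * (2 * b))
        nlinarith
  rcases Nat.lt_or_ge a 6 with h6 | h6
  · exact Or.inr (sym a b (by omega) hb e)
  rcases Nat.lt_or_ge b 6 with h6' | h6'
  · exact Or.inr (sym b a (by omega) ha (by linear_combination e))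
  left
  have hA : (6 : ℚ) ≤ a := by exact_mod_cast h6
  have hB : (6 : ℚ) ≤ b := by exact_mod_cast h6'
  by_contra hle
  push_neg at hle
  have h1 := mul_le_mul_of_nonneg_right hle hpos.le
  rw [e] at h1
  nlinarith [mul_nonneg (mul_nonneg (sub_nonneg.2 hA) (sub_nonneg.2 hB)) (sub_nonneg.2 hA),
    mul_nonneg (mul_nonneg (sub_nonneg.2 hA) (sub_nonneg.2 hB)) (sub_nonneg.2 hB),
    mul_nonneg (sub_nonneg.2 hA) (sub_nonneg.2 hB), mul_nonneg (sub_nonneg.2 hA) (sub_nonneg.2 hA),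
    mul_nonneg (sub_nonneg.2 hB) (sub_nonneg.2 hB)]

theorem le_fifteen {ρ : ℚ} (h : RatioPos ρ ∨ RatioNeg ρ) : ρ ≤ 15 := by
  rcases h with h | h
  · linarith [(pos_bounds h).1]
  · rcases (neg_bounds h).2 with h' | h' | ⟨y, -, -, -, h'⟩ <;> linarith

end Cfsg.Agent.Lib.TwoTransA5
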