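import Cfsg.Agent.Lib.TwoTransA5.Image
import Cfsg.Agent.Lib.TwoTransA5.Ratio
import Cfsg.Agent.Lib.TwoTransA4.EvenRatio

/-!
# Centralisers inside a point stabiliser; the order formula in even degree
-/

set_option autoImplicit false
set_option linter.unusedSectionVars false

namespace Cfsg.Agent.Lib.TwoTransA5

open MulAction
open Cfsg.Agent.Lib.ConstFix25 (fx two_apply mul_self_of_orderOf ne_one_of_orderOf card_offDiag)
open Cfsg.Agent.Lib.TwoTransA4 (Base InvH Sw orderOf_eq_two inv_eq_self pairNum swapNum W X cmap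
  mem_cent bar bar_smul bar_mul bar_one bar_inv bar_congr exists_bar bar_eq_one_iff bar_eq_iff
  faithfulX eq_of_diff_mem card_comap_eq card_stab_mul pretransitive isKleinFour_of
  card_centralizer_subgroup)

variable {G Ω : Type*} [Group G] [MulAction G Ω]

/-- The four group of `t` inside the pair stabiliser. -/
def fourSub (G : Type*) [Group G] [MulAction G Ω] (a b : Ω) (t : G) : Subgroup G :=
  stabilizer G a ⊓ stabilizer G b ⊓ Subgroup.centralizer ({t} : Set G)

theorem mem_fourSub {a b : Ω} {t g : G} :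
    g ∈ fourSub G a b t ↔ g • a = a ∧ g • b = b ∧ Commute g t :=
  ⟨fun h => ⟨h.1.1, h.1.2, Subgroup.mem_centralizer_singleton_iff.1 h.2⟩,
    fun h => ⟨⟨h.1, h.2.1⟩, Subgroup.mem_centralizer_singleton_iff.2 h.2.2.eq⟩⟩

/-- The point stabiliser's centraliser of the four group. -/
def centFour (G : Type*) [Group G] [MulAction G Ω] (a b : Ω) (t : G) : Subgroup G :=
  Subgroup.centralizer (fourSub G a b t : Set G) ⊓ stabilizer G a

namespace Data

variable {a b : Ω} (D : Data G Ω a b) {t s : G}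
include D

theorem mem_four (F : Four a b t s) {g : G} :
    g ∈ fourSub G a b t ↔ g = 1 ∨ g = t ∨ g = s ∨ g = s * t := by
  rw [mem_fourSub]
  constructor
  · rintro ⟨ha, hb, hc⟩
    exact D.four F ha hb hc
  · have hm := D.mul_invH F
    rintro (rfl | rfl | rfl | rfl)
    · exact ⟨one_smul _ _, one_smul _ _, Commute.one_left _⟩
    · exact ⟨F.t_inv.2.2.1, F.t_inv.2.2.2, Commute.refl _⟩
    · exact ⟨F.s_inv.2.2.1, F.s_inv.2.2.2, F.comm⟩
    · exact ⟨hm.2.2.1, hm.2.2.2, F.comm.mul_left (Commute.refl _)⟩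

theorem sq_four (F : Four a b t s) {g : G} (hg : g ∈ fourSub G a b t) : g * g = 1 := by
  rw [mem_fourSub] at hg
  exact D.sq_one_of_commute F.t_inv hg.1 hg.2.1 hg.2.2

theorem card_fourSub [Finite G] (F : Four a b t s) : Nat.card (fourSub G a b t) = 4 := by
  have h : (fourSub G a b t : Set G) = {1, t, s, s * t} := by
    ext v
    simp only [Set.mem_insert_iff, Set.mem_singleton_iff, SetLike.mem_coe, D.mem_four F]
  rw [show Nat.card (fourSub G a b t) = Set.ncard (fourSub G a b t : Set G) from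
    Nat.card_coe_set_eq _, h]
  have h1 : s * t ≠ s := fun e => F.t_inv.2.1 (mul_eq_left.1 e)
  have h2 : s * t ≠ t := fun e => F.s_inv.2.1 (mul_eq_right.1 e)
  rw [Set.ncard_insert_of_notMem (by
      simp [Ne.symm F.s_inv.2.1, Ne.symm F.t_inv.2.1, Ne.symm (D.mul_invH F).2.1]) (Set.toFinite _),
    Set.ncard_insert_of_notMem (by simp [Ne.symm F.ne, Ne.symm h2]) (Set.toFinite _),
    Set.ncard_pair (Ne.symm h1)]

theorem card_stab [Finite G] [Finite Ω] :
    Nat.card ↥(stabilizer G a) = 60 * (Nat.card Ω - 1) := by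
  haveI : Nontrivial Ω := ⟨⟨a, b, D.ne⟩⟩
  refine Nat.eq_of_mul_eq_mul_left (show 0 < Nat.card Ω from Nat.card_pos) ?_
  rw [mul_comm, card_stab_mul D.two a, D.card_group]
  ring

theorem card_cent_stab [Finite G] [Finite Ω] (ht : InvH a b t) :
    Nat.card ↥(Subgroup.centralizer ({t} : Set G) ⊓ stabilizer G a) = 4 * (fx Ω t - 1) := by
  have h := (D.base ht).card_cent_inf
  rw [D.pairNum_eq, D.card_H] at h
  omega

theorem mem_centFour (F : Four a b t s) {g : G} :
    g ∈ centFour G a b t ↔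
      g ∈ Subgroup.centralizer ({t} : Set G) ⊓ stabilizer G a ∧ Commute g s := by
  constructor
  · intro h
    exact ⟨⟨Subgroup.mem_centralizer_singleton_iff.2
      (h.1 t ((D.mem_four F).2 (Or.inr (Or.inl rfl)))).symm, h.2⟩,
      (h.1 s ((D.mem_four F).2 (Or.inr (Or.inr (Or.inl rfl))))).symm⟩
  · rintro ⟨⟨hg, hga⟩, hgs⟩
    have hgt : Commute g t := Subgroup.mem_centralizer_singleton_iff.1 hg
    refine ⟨fun v hv => ?_, hga⟩
    rcases (D.mem_four F).1 hv with rfl | rfl | rfl | rfl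
    · exact (Commute.one_right g).eq.symm
    · exact hgt.eq.symm
    · exact hgs.eq.symm
    · exact (hgs.mul_right hgt).eq.symm

theorem centFour_le (F : Four a b t s) :
    centFour G a b t ≤ Subgroup.centralizer ({t} : Set G) ⊓ stabilizer G a :=
  fun _ hg => ((D.mem_centFour F).1 hg).1

theorem four_dvd_centFour [Finite G] (F : Four a b t s) : 4 ∣ Nat.card (centFour G a b t) := by
  rw [← D.card_fourSub F]
  refine Subgroup.card_dvd_of_le fun g hg => (D.mem_centFour F).2 ⟨?_, ?_⟩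
  · rw [mem_fourSub] at hg
    exact ⟨Subgroup.mem_centralizer_singleton_iff.2 hg.2.2.eq, hg.1⟩
  · rcases (D.mem_four F).1 hg with rfl | rfl | rfl | rfl
    · exact Commute.one_left s
    · exact F.comm.symm
    · exact Commute.refl _
    · exact (Commute.refl s).mul_left F.comm.symm

/-- Elements moving `s` to `s` or `s t` form `centFour` when their number has two-part four. -/
theorem centFour_eq [Finite G] (F : Four a b t s)
    (A : Subgroup G) (hle : centFour G a b t ≤ A)
    (hA : A ≤ Subgroup.centralizer ({t} : Set G) ⊓ stabilizer G a)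
    (hmove : ∀ g ∈ A, g * s * g⁻¹ = s ∨ g * s * g⁻¹ = s * t) {m : ℕ}
    (hcard : Nat.card A = 4 * m) (hm : Odd m) : centFour G a b t = A := by
  refine eq_of_diff_mem hle ?_ ?_
  · intro g hg g' hg' hgn hg'n
    have hmove' : ∀ x ∈ A, x ∉ centFour G a b t → x * s * x⁻¹ = s * t := fun x hx hxn =>
      (hmove x hx).resolve_left fun h =>
        hxn ((D.mem_centFour F).2 ⟨hA hx, mul_inv_eq_iff_eq_mul.1 h⟩)
    refine (D.mem_centFour F).2 ⟨hA (mul_mem (inv_mem hg) hg'), ?_⟩
    have h1 := hmove' g hg hgn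
    rw [← hmove' g' hg' hg'n] at h1
    show g⁻¹ * g' * s = s * (g⁻¹ * g')
    calc g⁻¹ * g' * s = g⁻¹ * (g' * s * g'⁻¹) * g' := by group
      _ = s * (g⁻¹ * g') := by rw [← h1]; group
  · intro k hk
    obtain ⟨d, hd⟩ := D.four_dvd_centFour F
    rw [hd, hcard, mul_assoc] at hk
    rw [Nat.eq_of_mul_eq_mul_left (by norm_num : 0 < 4) hk] at hm
    exact Nat.Odd.of_mul_right hm

/-- The ratio in even degree, in terms of `|C_{G_a}(V)|`. -/
theorem even_ratio [Finite G] [Finite Ω] (F : Four a b t s) (heven : Even (Nat.card Ω)) :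
    ∃ ρ : ℚ, (60 * ((Nat.card Ω : ℚ) - 1)) * (Nat.card (centFour G a b t) : ℚ) ^ 2 =
        ρ * (4 * ((fx Ω t : ℚ) - 1)) ^ 3 ∧ (RatioPos ρ ∨ RatioNeg ρ) := by
  haveI : Fact (Nat.Prime 2) := ⟨Nat.prime_two⟩
  have ht := F.t_inv
  have hle : fourSub G a b t ≤ stabilizer G a := fun g hg => hg.1.1
  set V := (fourSub G a b t).subgroupOf (stabilizer G a) with hV
  have hV4 : Nat.card V = 4 := by
    rw [Nat.card_congr (Subgroup.subgroupOfEquivOfLe hle).toEquiv, D.card_fourSub F]
  have hfac : (Nat.card ↥(stabilizer G a)).factorization 2 = 2 := by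
    rw [D.card_stab, show 60 * (Nat.card Ω - 1) = 4 * (15 * (Nat.card Ω - 1)) by ring]
    obtain ⟨k, hk⟩ := heven
    have h1 : 2 ≤ Nat.card Ω := le_trans ((D.base ht).two_le_fix) (D.base ht).fix_lt.le
    rw [Nat.factorization_mul (by norm_num) (by omega), Finsupp.add_apply,
      Nat.factorization_eq_zero_of_not_dvd (n := 15 * (Nat.card Ω - 1)) (by omega), add_zero,
      show (4 : ℕ) = 2 ^ 2 by norm_num, Nat.prime_two.factorization_pow, Finsupp.single_eq_same]
  let P : Sylow 2 ↥(stabilizer G a) := Sylow.ofCard V (by rw [hV4, hfac]; rfl)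
  have hP : (P : Subgroup ↥(stabilizer G a)) = V := Sylow.coe_ofCard _ _
  have hsq : ∀ v : ↥(P : Subgroup ↥(stabilizer G a)), v * v = 1 := fun v => by
    have h : (v : ↥(stabilizer G a)) ∈ V := hP ▸ v.2
    exact Subtype.ext (Subtype.ext (D.sq_four F h))
  have hklein : IsKleinFour (P : Subgroup ↥(stabilizer G a)) :=
    isKleinFour_of (by rw [hP, hV4]) hsq
  have hone : ∀ u v : ↥(stabilizer G a), orderOf u = 2 → orderOf v = 2 → IsConj u v := by
    intro u v hu hv
    have hmem : ∀ x : ↥(stabilizer G a), orderOf x = 2 →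
        ∃ g : ↥(stabilizer G a), InvH a b ((g * x * g⁻¹ : ↥(stabilizer G a)) : G) := by
      intro x hx
      have hp : IsPGroup 2 ↥(Subgroup.zpowers x) :=
        IsPGroup.of_card (n := 1) (by rw [Nat.card_zpowers, hx, pow_one])
      obtain ⟨Q, hQ⟩ := hp.exists_le_sylow
      obtain ⟨g, hg⟩ := MulAction.exists_smul_eq ↥(stabilizer G a) Q P
      refine ⟨g, ?_⟩
      have h : g * x * g⁻¹ ∈ (P : Subgroup ↥(stabilizer G a)) := by
        rw [← hg, Sylow.coe_subgroup_smul]
        exact ⟨x, hQ (Subgroup.mem_zpowers x), rfl⟩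
      rw [hP] at h
      have h' := mem_fourSub.1 (show ((g * x * g⁻¹ : ↥(stabilizer G a)) : G) ∈ fourSub G a b t
        from h)
      refine ⟨D.sq_four F h, fun e => ?_, h'.1, h'.2.1⟩
      have : g * x * g⁻¹ = 1 := Subtype.ext e
      rw [conj_eq_one_iff.1 this, orderOf_one] at hx
      norm_num at hx
    obtain ⟨g, hg⟩ := hmem u hu
    obtain ⟨g', hg'⟩ := hmem v hv
    obtain ⟨k, hka, -, hk⟩ := D.conj hg hg'
    refine (isConj_iff.2 ⟨g, rfl⟩).trans ((isConj_iff.2 ⟨⟨k, hka⟩, Subtype.ext hk⟩).trans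
      (isConj_iff.2 ⟨g', rfl⟩).symm)
  let J : ↥(stabilizer G a) := ⟨t, ht.2.2.1⟩
  have hJ : J ∈ (P : Subgroup ↥(stabilizer G a)) := by
    rw [hP]; exact (D.mem_four F).2 (Or.inr (Or.inl rfl))
  have hJ2 : orderOf J = 2 := (Subgroup.orderOf_coe J).symm.trans ht.orderOf
  obtain ⟨ρ, hρ, h1⟩ := ratio P hklein hone hJ hJ2
  refine ⟨ρ, ?_, h1⟩
  have e1 : Nat.card (Subgroup.centralizer ((P : Subgroup ↥(stabilizer G a)) :
      Set ↥(stabilizer G a))) = Nat.card (centFour G a b t) := by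
    rw [card_centralizer_subgroup]
    have hset : ((Subtype.val '' ((P : Subgroup ↥(stabilizer G a)) : Set ↥(stabilizer G a))) : Set G) =
        (fourSub G a b t : Set G) := by
      rw [hP]
      ext x
      exact ⟨fun ⟨y, hy, e⟩ => e ▸ hy, fun hx => ⟨⟨x, hle hx⟩, hx, rfl⟩⟩
    rw [hset]
    rfl
  have e2 : Nat.card (Subgroup.centralizer ({J} : Set ↥(stabilizer G a))) = 4 * (fx Ω t - 1) := by
    rw [card_centralizer_subgroup, Set.image_singleton]
    exact D.card_cent_stab ht
  rw [e1, e2, D.card_stab] at hρ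
  have h2f := (D.base ht).two_le_fix
  haveI : Nonempty Ω := ⟨a⟩
  have hn : 1 ≤ Nat.card Ω := Nat.card_pos
  push_cast [Nat.cast_sub (show 1 ≤ fx Ω t by omega), Nat.cast_sub hn] at hρ
  exact hρ

/-- In the collinear case the centraliser of `t` in `G_a` centralises the four group. -/
theorem centFour_lin [Finite G] [Finite Ω] (F : Four a b t s) (hL : Lin G a b)
    (hev : Even (fx Ω t)) :
    centFour G a b t = Subgroup.centralizer ({t} : Set G) ⊓ stabilizer G a := by
  refine D.centFour_eq F _ (D.centFour_le F) le_rfl ?_ (D.card_cent_stab F.t_inv) ?_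
  · rintro g ⟨hg, hga⟩
    have hgt : Commute g t := Subgroup.mem_centralizer_singleton_iff.1 hg
    have hfix : ∀ x : Ω, t • x = x → (g * s * g⁻¹) • x = x := by
      intro x hx
      have h : s • (g⁻¹ • x) = g⁻¹ • x :=
        hL t s F.t_inv F.s_inv F.comm _ (by rw [← mul_smul, ← hgt.inv_left.eq, mul_smul, hx])
      rw [mul_smul, mul_smul, h, smul_inv_smul]
    rcases D.four F (v := g * s * g⁻¹) (hfix a F.t_inv.2.2.1) (hfix b F.t_inv.2.2.2)
      ((hgt.mul_left F.comm).mul_left hgt.inv_left) with h | h | h | h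
    · exact absurd (conj_eq_one_iff.1 h) F.s_inv.2.1
    · refine absurd ?_ F.ne
      calc s = g⁻¹ * (g * s * g⁻¹) * g := by group
        _ = t := by rw [h, mul_assoc, ← hgt.eq]; group
    · exact Or.inl h
    · exact Or.inr h
  · obtain ⟨k, hk⟩ := hev
    have := (D.base F.t_inv).two_le_fix
    exact ⟨k - 1, by omega⟩

/-- Otherwise its order is `4 (d - 1)`. -/
theorem card_centFour [Finite G] [Finite Ω] (F : Four a b t s) (hL : ¬ Lin G a b)
    (hev : Even (fx (W Ω t) (bar F.comm : ↥(X Ω t)))) :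
    Nat.card (centFour G a b t) = 4 * (fx (W Ω t) (bar F.comm : ↥(X Ω t)) - 1) := by
  have ht := F.t_inv
  set sb : ↥(X Ω t) := bar F.comm with hsb
  have BX := D.baseX F hL
  set A := Subgroup.centralizer ({t} : Set G) ⊓ stabilizer G a
  set φ : ↥A →* ↥(X Ω t) :=
    (cmap Ω t).rangeRestrict.comp (Subgroup.inclusion inf_le_left) with hφ
  have hφbar : ∀ g : ↥A, φ g = bar (Subgroup.mem_centralizer_singleton_iff.1 g.2.1) := fun g => rfl
  set B := ((Subgroup.centralizer ({sb} : Set ↥(X Ω t))).comap φ).map A.subtype with hB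
  have hker : Nat.card ↥φ.ker = 2 := by
    refine Nat.card_eq_two_iff.2 ⟨⟨1, φ.ker.one_mem⟩, ⟨⟨t, Subgroup.mem_centralizer_singleton_iff.2
      rfl, ht.2.2.1⟩, ?_⟩, ?_, ?_⟩
    · rw [MonoidHom.mem_ker, hφbar]
      exact (bar_eq_one_iff _).2 fun x hx => hx
    · exact fun e => ht.2.1 (congrArg (fun z : ↥φ.ker => ((z : ↥A) : G)) e).symm
    · refine Set.eq_univ_iff_forall.2 fun x => ?_
      have hx : φ x = 1 := x.2
      replace hx := (bar_eq_one_iff _).1 ((hφbar _).symm.trans hx)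
      rcases D.kernel F hL (Subgroup.mem_centralizer_singleton_iff.1 x.1.2.1) hx with h | h
      · exact Or.inl (Subtype.ext (Subtype.ext h))
      · exact Or.inr (Subtype.ext (Subtype.ext h))
  have hrange : φ.range = stabilizer ↥(X Ω t) (pa ht) := by
    ext x
    constructor
    · rintro ⟨g, rfl⟩
      exact Subtype.ext g.2.2
    · intro hx
      obtain ⟨g, hg, rfl⟩ := exists_bar x
      exact ⟨⟨g, mem_cent hg, congrArg Subtype.val hx⟩, rfl⟩
  have hcardB : Nat.card B = 4 * (fx (W Ω t) sb - 1) := by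
    rw [hB, Nat.card_congr ((Subgroup.comap φ (Subgroup.centralizer {sb})).equivMapOfInjective
      A.subtype A.subtype_injective).toEquiv.symm, card_comap_eq, hker, hrange]
    have h := BX.card_cent_inf
    rw [D.pairNum_X F hL, D.card_stab_X F hL, one_mul] at h
    rw [h]
    ring
  have hmem : ∀ g : G, g ∈ B ↔
      ∃ hg : g ∈ A, φ ⟨g, hg⟩ * sb = sb * φ ⟨g, hg⟩ := by
    intro g
    constructor
    · rintro ⟨x, hx, rfl⟩
      exact ⟨x.2, Subgroup.mem_centralizer_singleton_iff.1 hx⟩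
    · rintro ⟨hg, h⟩
      exact ⟨⟨g, hg⟩, Subgroup.mem_centralizer_singleton_iff.2 h, rfl⟩
  obtain ⟨k, hk⟩ := hev
  have h2e : 2 ≤ fx (W Ω t) sb := BX.two_le_fix
  rw [D.centFour_eq F B ?_ (fun g hg => ((hmem g).1 hg).1) ?_ hcardB ⟨k - 1, by omega⟩, hcardB]
  · intro g hg
    obtain ⟨hgA, hgs⟩ := (D.mem_centFour F).1 hg
    refine (hmem g).2 ⟨hgA, ?_⟩
    have hgt : Commute g t := Subgroup.mem_centralizer_singleton_iff.1 hgA.1
    rw [hφbar, ← bar_mul hgt F.comm, ← bar_mul F.comm hgt]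
    exact bar_congr _ _ hgs.eq
  · intro g hg
    obtain ⟨hgA, hg'⟩ := (hmem g).1 hg
    have hgt : Commute g t := Subgroup.mem_centralizer_singleton_iff.1 hgA.1
    rw [hφbar, ← bar_mul hgt F.comm, ← bar_mul F.comm hgt, bar_eq_iff] at hg'
    set c := s⁻¹ * (g * s * g⁻¹) with hc
    have hcfix : ∀ x : Ω, t • x = x → c • x = x := by
      intro x hx
      have h := hg' (g⁻¹ • x) (by rw [← mul_smul, ← hgt.inv_left.eq, mul_smul, hx])
      rw [hc, mul_smul, inv_smul_eq_iff, mul_smul, h, mul_smul, smul_inv_smul]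
    have hct : Commute c t :=
      F.comm.inv_left.mul_left ((hgt.mul_left F.comm).mul_left hgt.inv_left)
    have hgs : g * s * g⁻¹ = s * c := by rw [hc, mul_inv_cancel_left]
    rcases D.kernel F hL hct hcfix with h | h
    · exact Or.inl (by rw [hgs, h, mul_one])
    · exact Or.inr (by rw [hgs, h])

end Data

end Cfsg.Agent.Lib.TwoTransA5
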