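import Cfsg.Agent.Lib.TwoTransA5.OddS
import Cfsg.Agent.Lib.TwoTransA4.PslFour
import Cfsg.Agent.Lib.Alternating.Aut
import Cfsg.Agent.S0483

/-!
# Odd degree: the alternating group on seven points
-/

set_option autoImplicit false
set_option linter.unusedSectionVars false

namespace Cfsg.Agent.Lib.TwoTransA5

open MulAction
open scoped commutatorElement
open Cfsg.Agent.Lib.ConstFix25 (fx mul_self_of_orderOf ne_one_of_orderOf)
open Cfsg.Agent.Lib.TwoTransA4 (Base InvH Sw inv_eq_self swapNum)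

universe u v

variable {G : Type u} {Ω : Type v} [Group G] [MulAction G Ω]

namespace Data

variable {a b : Ω} (D : Data G Ω a b)
include D

/-- A normal subgroup with a four group self-centralising contradicts the case `S₅`. -/
theorem four_not_self [Finite G] [Finite Ω] (hS : SwapFacts G a b) {t s : G} (F : Four a b t s)
    (hodd : Odd (Nat.card Ω)) {N : Subgroup G} (hNn : N.Normal)
    (hmem : ∀ u : G, orderOf u = 2 → u ∈ N)
    (hself : ∀ g ∈ N, Commute g t → Commute g s → g = 1 ∨ g = t ∨ g = s ∨ g = s * t) : False := by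
  obtain ⟨τ, hτ, hτt, hτs⟩ := hS.exists_sw t s F
  obtain ⟨q, hqa, hqb, hqt, hqs⟩ := D.third_point F hodd
  obtain ⟨g, hgt, hgs, hg⟩ := D.pair_move hS F hqa hqt F.t_inv.2.2.1 hqs F.s_inv.2.2.1
  have hτN : τ ∈ N := hmem τ (hτ.orderOf D.ne)
  set c := τ⁻¹ * (g⁻¹ * τ * g⁻¹⁻¹) with hc
  have hcN : c ∈ N := mul_mem (inv_mem hτN) (hNn.conj_mem τ hτN g⁻¹)
  have hct : Commute c t :=
    hτt.inv_left.mul_left ((hgt.inv_left.mul_left hτt).mul_left hgt.inv_left.inv_left)
  have hgsc : g * s * g⁻¹ = s := mul_inv_eq_iff_eq_mul.2 hgs.eq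
  have hgis : g⁻¹ * (s * t) * g = s * t := by
    calc g⁻¹ * (s * t) * g = g⁻¹ * ((s * t) * g) := by rw [mul_assoc]
      _ = g⁻¹ * (g * (s * t)) := by rw [(hgs.mul_right hgt).eq]
      _ = s * t := inv_mul_cancel_left g _
  have hcs : Commute c s := by
    refine mul_inv_eq_iff_eq_mul.1 ?_
    calc c * s * c⁻¹ = τ⁻¹ * (g⁻¹ * (τ * (g * s * g⁻¹) * τ⁻¹) * g) * τ := by rw [hc]; group
      _ = τ⁻¹ * (g⁻¹ * (s * t) * g) * τ := by rw [hgsc, hτs]
      _ = τ⁻¹ * (τ * s * τ⁻¹) * τ := by rw [hgis, hτs]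
      _ = s := by group
  have hcfix : c • a = a ∧ c • b = b := by
    rcases hself c hcN hct hcs with e | e | e | e <;> rw [e]
    · exact ⟨one_smul _ _, one_smul _ _⟩
    · exact F.t_inv.2.2
    · exact F.s_inv.2.2
    · exact ⟨(D.mul_invH F).2.2.1, (D.mul_invH F).2.2.2⟩
  have key : g⁻¹ • τ • g • a = b := by
    have h := congrArg (fun x => τ • x) hcfix.1
    simp only [hc, inv_inv, mul_smul, smul_inv_smul, hτ.2] at h
    exact h
  rw [inv_smul_eq_iff] at key
  rcases hg with ⟨hga, hgb⟩ | ⟨hga, hgb⟩ <;> rw [hga, hgb] at key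
  · refine hqb ?_
    rw [← hτ.2, ← key, ← mul_smul τ τ, hτ.1, one_smul]
  · rw [hτ.2] at key
    exact hqb key.symm

theorem iso_seven [Finite G] [Finite Ω] (hnr : NoRegular G Ω) {t : G} (ht : InvH a b t)
    (hS : SwapFacts G a b) (hc : swapNum a b t = 10) (hall : ∀ u : G, orderOf u = 2 → IsConj t u)
    (hodd : Odd (Nat.card Ω)) :
    Nat.card Ω = 7 ∧ Nonempty (G ≃* ↥(alternatingGroup (Fin 7))) := by
  classical
  haveI := D.faithful
  obtain ⟨t', s', S, F, htS, hsS, hct⟩ := D.exists_central hS ht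
  obtain ⟨⟨m, hm, hSm⟩, hgen⟩ := D.sylow_dihedral hS hodd F htS hsS hct
  obtain ⟨N, hNn, hsimple, hnc, hmem, hcN, hcore, -⟩ :=
    exists_simple D.two D.ne hnr fun u v hu hv => (hall u hu).symm.trans (hall v hv)
  haveI := hNn
  have hle : (S : Subgroup G) ≤ N := hgen N hmem
  let SN : Sylow 2 ↥N := S.subtype hle
  have hSN : Nonempty ((SN : Subgroup ↥N) ≃* DihedralGroup m) := by
    obtain ⟨e⟩ := hSm
    exact ⟨((MulEquiv.subgroupCongr (Sylow.coe_subtype S hle)).trans
      (Subgroup.subgroupOfEquivOfLe hle)).trans e⟩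
  haveI := hsimple
  haveI : Group.IsPerfect ↥N := by
    refine ⟨(inferInstance : (commutator ↥N).Normal).eq_bot_or_eq_top.resolve_left fun h => hnc ?_⟩
    refine ⟨⟨fun x y => ?_⟩⟩
    have h1 : ⁅x, y⁆ ∈ commutator ↥N :=
      Subgroup.commutator_mem_commutator (Subgroup.mem_top x) (Subgroup.mem_top y)
    rw [h, Subgroup.mem_bot] at h1
    exact commutatorElement_eq_one_iff_mul_comm.1 h1
  let e0 : ↥N ≃* ↥N ⧸ Cfsg.oddCore ↥N :=
    ((QuotientGroup.quotientMulEquivOfEq hcore).trans QuotientGroup.quotientBot).symm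
  have htN : t' ∈ N := hle htS
  have hsN : s' ∈ N := hle hsS
  rcases Cfsg.Agent.S0483.result SN m hm hSN with ⟨K, hK, hKf, hodd', -, ⟨e⟩⟩ | he
  · exfalso
    set φ := e0.trans e
    have h2 : (2 : K) ≠ 0 := Cfsg.Agent.Lib.PSLFacts.two_ne_zero_iff.2 hodd'
    have hord : ∀ x : ↥N, orderOf (φ x) = orderOf (x : G) := fun x => by
      rw [MulEquiv.orderOf_eq, Subgroup.orderOf_coe]
    have hpair : Cfsg.Agent.Lib.PSLFacts.FourCount.IsPair (φ ⟨t', htN⟩) (φ ⟨s', hsN⟩) :=
      ⟨by rw [hord]; exact F.t_inv.orderOf, by rw [hord]; exact F.s_inv.orderOf,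
        fun h => F.ne (congrArg Subtype.val (φ.injective h)).symm, by
          show _ * _ = _ * _
          rw [← map_mul, ← map_mul]
          exact congrArg φ (Subtype.ext F.comm.symm.eq)⟩
    refine D.four_not_self hS F hodd hNn hmem fun g hgN hg hgs => ?_
    have h := TwoTransA4.psl_four_centralizer h2 hpair (k := φ ⟨g, hgN⟩)
      (by rw [← map_mul, ← map_mul]; exact congrArg φ (Subtype.ext hg.eq))
      (by rw [← map_mul, ← map_mul]; exact congrArg φ (Subtype.ext hgs.eq))
    rw [← map_one φ, ← map_mul] at h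
    simp only [φ.injective.eq_iff, Subtype.ext_iff] at h
    rcases h with h | h | h | h
    · exact Or.inl h
    · exact Or.inr (Or.inl h)
    · exact Or.inr (Or.inr (Or.inl h))
    · exact Or.inr (Or.inr (Or.inr (by rw [show g = t' * s' from h, F.comm.eq])))
  · obtain ⟨e⟩ := he
    set φ := e0.trans e
    have hcard : Nat.card (MulAut ↥N) = 5040 := by
      rw [Nat.card_congr (MulAut.congr φ).toEquiv,
        Cfsg.Agent.Lib.Alternating.nat_card_mulAut_alt (by simp) (by simp), Fintype.card_fin]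
      rfl
    have hinj : Function.Injective (MulAut.conjNormal : G →* MulAut ↥N) := by
      rw [injective_iff_map_eq_one]
      intro g hg
      refine (Subgroup.eq_bot_iff_forall _).1 hcN g fun y hy => ?_
      have h := congrArg Subtype.val (DFunLike.congr_fun hg (⟨y, hy⟩ : ↥N))
      rw [MulAut.conjNormal_apply] at h
      exact (mul_inv_eq_iff_eq_mul.1 h).symm
    have hG5040 : Nat.card G ≤ 5040 := hcard ▸ Nat.card_le_card_of_injective _ hinj
    rw [D.card_group] at hG5040
    have hfx := D.fixity ht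
    have hlt := (D.base ht).fix_lt
    have hf2 := (D.base ht).two_le_fix
    have hfo : Odd (fx Ω t) := Nat.not_even_iff_odd.1 fun h =>
      Nat.not_even_iff_odd.2 hodd ((D.base ht).even_iff.2 h)
    have hn9 : Nat.card Ω ≤ 9 := by
      by_contra h
      have := Nat.mul_le_mul (show 10 ≤ Nat.card Ω by omega) (show 9 ≤ Nat.card Ω - 1 by omega)
      omega
    rw [hc] at hfx
    obtain ⟨r, hr⟩ := hfo
    have hf : fx Ω t = 3 := by
      rcases (show r = 1 ∨ r = 2 ∨ 3 ≤ r by omega) with h1 | h2 | h3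
      · omega
      · rw [show fx Ω t = 5 by omega] at hfx
        omega
      · have := Nat.mul_le_mul (show 7 ≤ fx Ω t by omega) (show 6 ≤ fx Ω t - 1 by omega)
        omega
    rw [hf] at hfx
    have hn7 : Nat.card Ω = 7 := by omega
    have hNtop : N = ⊤ := by
      refine Subgroup.eq_top_of_card_eq N ?_
      rw [Nat.card_congr φ.toEquiv, nat_card_alternatingGroup, Nat.card_fin, D.card_group, hn7]
      rfl
    exact ⟨hn7, ⟨(Subgroup.topEquiv.symm.trans (MulEquiv.subgroupCongr hNtop.symm)).trans φ⟩⟩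

end Data

end Cfsg.Agent.Lib.TwoTransA5
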