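import Cfsg.Agent.Lib.TwoTransA5.Alt5
import Cfsg.Agent.Lib.TwoTransA4.Swap
import Cfsg.Agent.Lib.Alternating.Aut

/-!
# The stabiliser of a pair as a set: `A₅ × 2` or `S₅`
-/

set_option autoImplicit false
set_option linter.unusedSectionVars false

namespace Cfsg.Agent.Lib.TwoTransA5

open MulAction
open Cfsg.Agent.Lib.ConstFix25 (fx two_apply orderOf_conj mul_self_of_orderOf ne_one_of_orderOf)
open Cfsg.Agent.Lib.TwoTransA4 (Base InvH Sw orderOf_eq_two inv_eq_self conj_fix conj_smul_smul)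

namespace SFive

abbrev A5 := ↥(alternatingGroup (Fin 5))
abbrev S5 := Equiv.Perm (Fin 5)

theorem card_odd : Fintype.card {u : S5 // Equiv.Perm.sign u = -1 ∧ u * u = 1} = 10 := by
  decide +kernel

theorem odd_conj : ∀ u : S5, u * u = 1 → Equiv.Perm.sign u = -1 → ∀ v : S5, v * v = 1 →
    Equiv.Perm.sign v = -1 → ∃ g : S5, Equiv.Perm.sign g = 1 ∧ g * u * g⁻¹ = v := by
  decide +kernel

set_option synthInstance.maxSize 4000 in
theorem sw : ∀ t : A5, t * t = 1 → t ≠ 1 → ∀ s : A5, s * t = t * s → s ≠ 1 → s ≠ t →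
    ∃ u : S5, u * u = 1 ∧ Equiv.Perm.sign u = -1 ∧ u * (t : S5) = t * u ∧
      u * (s : S5) = s * t * u := by
  decide +kernel

set_option synthInstance.maxSize 4000 in
theorem odd_sq : ∀ t : A5, t * t = 1 → t ≠ 1 → ∀ g : S5, g * (t : S5) = t * g →
    Equiv.Perm.sign g = -1 → g * g = 1 ∨ g * g = t := by
  decide +kernel

set_option synthInstance.maxSize 4000 in
theorem odd_four : ∀ t : A5, t * t = 1 → t ≠ 1 → ∀ s : A5, s * t = t * s → s ≠ 1 → s ≠ t →
    ∀ g : S5, g * (t : S5) = t * g → g * (s : S5) = s * g → Equiv.Perm.sign g = 1 := by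
  decide +kernel

theorem cent_triv : ∀ σ : S5, (∀ x : A5, σ * (x : S5) = x * σ) → σ = 1 := by
  decide +kernel

end SFive

variable {G Ω : Type*} [Group G] [MulAction G Ω]

/-- The elements preserving the pair. -/
def setStab (G : Type*) [Group G] [MulAction G Ω] (a b : Ω) : Subgroup G where
  carrier := {g | (g • a = a ∧ g • b = b) ∨ (g • a = b ∧ g • b = a)}
  mul_mem' := by
    rintro x y (⟨hxa, hxb⟩ | ⟨hxa, hxb⟩) (⟨hya, hyb⟩ | ⟨hya, hyb⟩)
    · exact Or.inl ⟨by rw [mul_smul, hya, hxa], by rw [mul_smul, hyb, hxb]⟩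
    · exact Or.inr ⟨by rw [mul_smul, hya, hxb], by rw [mul_smul, hyb, hxa]⟩
    · exact Or.inr ⟨by rw [mul_smul, hya, hxa], by rw [mul_smul, hyb, hxb]⟩
    · exact Or.inl ⟨by rw [mul_smul, hya, hxb], by rw [mul_smul, hyb, hxa]⟩
  one_mem' := Or.inl ⟨one_smul G a, one_smul G b⟩
  inv_mem' := by
    rintro x (⟨hxa, hxb⟩ | ⟨hxa, hxb⟩)
    · exact Or.inl ⟨by rw [inv_smul_eq_iff, hxa], by rw [inv_smul_eq_iff, hxb]⟩
    · exact Or.inr ⟨by rw [inv_smul_eq_iff, hxb], by rw [inv_smul_eq_iff, hxa]⟩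

theorem mem_setStab {a b : Ω} {g : G} :
    g ∈ setStab G a b ↔ (g • a = a ∧ g • b = b) ∨ (g • a = b ∧ g • b = a) := Iff.rfl

theorem setStab_normalizes {a b : Ω} {g h : G} (hg : g ∈ setStab G a b)
    (hh : h ∈ stabilizer G a ⊓ stabilizer G b) :
    g * h * g⁻¹ ∈ stabilizer G a ⊓ stabilizer G b := by
  obtain ⟨hha, hhb⟩ := hh
  have hha' : h • a = a := hha
  have hhb' : h • b = b := hhb
  rcases hg with ⟨hga, hgb⟩ | ⟨hga, hgb⟩
  · refine ⟨?_, ?_⟩
    · show (g * h * g⁻¹) • a = a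
      rw [← hga, conj_smul_smul, hha']
    · show (g * h * g⁻¹) • b = b
      rw [← hgb, conj_smul_smul, hhb']
  · exact conj_fix hga hgb hha' hhb'

/-- Conjugation on the pair stabiliser. -/
def conjOn (G : Type*) [Group G] [MulAction G Ω] (a b : Ω) :
    ↥(setStab G a b) →* MulAut ↥(stabilizer G a ⊓ stabilizer G b) where
  toFun g :=
    { toFun := fun h => ⟨(g : G) * h * (g : G)⁻¹, setStab_normalizes g.2 h.2⟩
      invFun := fun h => ⟨(g : G)⁻¹ * h * (g : G)⁻¹⁻¹,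
        setStab_normalizes ((setStab G a b).inv_mem g.2) h.2⟩
      left_inv := fun h => Subtype.ext (by
        show (g : G)⁻¹ * ((g : G) * h * (g : G)⁻¹) * (g : G)⁻¹⁻¹ = h
        group)
      right_inv := fun h => Subtype.ext (by
        show (g : G) * ((g : G)⁻¹ * h * (g : G)⁻¹⁻¹) * (g : G)⁻¹ = h
        group)
      map_mul' := fun h k => Subtype.ext (by
        show (g : G) * ((h * k : ↥(stabilizer G a ⊓ stabilizer G b)) : G) * (g : G)⁻¹ =
          (g : G) * h * (g : G)⁻¹ * ((g : G) * k * (g : G)⁻¹)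
        rw [Subgroup.coe_mul]
        group) }
  map_one' := MulEquiv.ext fun h => Subtype.ext (by
    show ((1 : ↥(setStab G a b)) : G) * h * ((1 : ↥(setStab G a b)) : G)⁻¹ = h
    rw [OneMemClass.coe_one, one_mul, inv_one, mul_one])
  map_mul' g k := MulEquiv.ext fun h => Subtype.ext (by
    show ((g * k : ↥(setStab G a b)) : G) * h * ((g * k : ↥(setStab G a b)) : G)⁻¹ =
      (g : G) * ((k : G) * h * (k : G)⁻¹) * (g : G)⁻¹
    rw [Subgroup.coe_mul]
    group)

/-- `A₅ × 2`: a swapping involution centralising the pair stabiliser. -/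
def CaseA (a b : Ω) (j : G) : Prop :=
  Sw a b j ∧ ∀ h : G, h • a = a → h • b = b → Commute j h

/-- `S₅`: the stabiliser of the pair as a set acts faithfully on five letters. -/
def CaseS (G : Type*) [Group G] [MulAction G Ω] (a b : Ω) : Prop :=
  ∃ φ : ↥(setStab G a b) →* Equiv.Perm (Fin 5), Function.Bijective φ ∧
    ∀ g : ↥(setStab G a b), Equiv.Perm.sign (φ g) = 1 ↔ (g : G) • a = a

namespace Data

variable {a b : Ω} (D : Data G Ω a b)
include D

theorem exists_letters : ∃ (φ : ↥(setStab G a b) →* Equiv.Perm (Fin 5))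
    (e : ↥(stabilizer G a ⊓ stabilizer G b) ≃* ↥(alternatingGroup (Fin 5))),
    (∀ (g : ↥(setStab G a b)) (h : ↥(stabilizer G a ⊓ stabilizer G b)),
        φ g * (e h : Equiv.Perm (Fin 5)) * (φ g)⁻¹ =
          (e ⟨(g : G) * h * (g : G)⁻¹, setStab_normalizes g.2 h.2⟩ : Equiv.Perm (Fin 5))) ∧
      ∀ h : ↥(stabilizer G a ⊓ stabilizer G b), φ ⟨h, Or.inl h.2⟩ = e h := by
  obtain ⟨e⟩ := D.alt
  let E := Cfsg.Agent.Lib.Alternating.autEquiv (α := Fin 5) (by simp) (by simp)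
  let φ : ↥(setStab G a b) →* Equiv.Perm (Fin 5) :=
    E.symm.toMonoidHom.comp ((MulAut.congr e).toMonoidHom.comp (conjOn G a b))
  have key : ∀ (g : ↥(setStab G a b)) (h : ↥(stabilizer G a ⊓ stabilizer G b)),
      φ g * (e h : Equiv.Perm (Fin 5)) * (φ g)⁻¹ =
        (e ⟨(g : G) * h * (g : G)⁻¹, setStab_normalizes g.2 h.2⟩ : Equiv.Perm (Fin 5)) := by
    intro g h
    have h1 : E (φ g) = MulAut.congr e (conjOn G a b g) := E.apply_symm_apply _
    have h2 := congrArg (fun ψ : MulAut ↥(alternatingGroup (Fin 5)) =>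
      ((ψ (e h)) : Equiv.Perm (Fin 5))) h1
    rw [show E (φ g) = MulAut.conjNormal (φ g) from rfl, MulAut.conjNormal_apply] at h2
    refine h2.trans ?_
    show ((e (conjOn G a b g (e.symm (e h)))) : Equiv.Perm (Fin 5)) = _
    rw [e.symm_apply_apply]
    rfl
  refine ⟨φ, e, key, fun h => ?_⟩
  have hc := SFive.cent_triv ((e h : Equiv.Perm (Fin 5))⁻¹ * φ ⟨h, Or.inl h.2⟩) fun x => ?_
  · exact (inv_mul_eq_one.1 hc).symm
  obtain ⟨k, rfl⟩ := e.surjective x
  have h1 := key ⟨h, Or.inl h.2⟩ k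
  rw [show (⟨(h : G) * k * (h : G)⁻¹, setStab_normalizes (Or.inl h.2) k.2⟩ :
      ↥(stabilizer G a ⊓ stabilizer G b)) = h * k * h⁻¹ from Subtype.ext rfl, map_mul, map_mul,
    map_inv, Subgroup.coe_mul, Subgroup.coe_mul, Subgroup.coe_inv, mul_inv_eq_iff_eq_mul] at h1
  rw [mul_assoc, h1]
  group

theorem mem_setStab_of_swap {g : G} (hga : g • a = b) (hgb : g • b = a) : g ∈ setStab G a b :=
  Or.inr ⟨hga, hgb⟩

theorem dichotomy : (∃ j : G, CaseA a b j) ∨ CaseS G a b := by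
  classical
  obtain ⟨φ, e, key, hext⟩ := D.exists_letters
  have hcent : ∀ g : ↥(setStab G a b), φ g = 1 →
      ∀ h : ↥(stabilizer G a ⊓ stabilizer G b), Commute (g : G) h := by
    intro g hg h
    have h1 := key g h
    rw [hg, one_mul, inv_one, mul_one] at h1
    exact mul_inv_eq_iff_eq_mul.1 (congrArg Subtype.val (e.injective (Subtype.ext h1))).symm
  by_cases hA : ∃ j : G, CaseA a b j
  · exact Or.inl hA
  refine Or.inr ⟨φ, ?_⟩
  have hH : ∀ g : ↥(setStab G a b), (g : G) • a = a → Equiv.Perm.sign (φ g) = 1 := by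
    intro g hga
    have hgb : (g : G) • b = b := by
      rcases g.2 with h | h
      · exact h.2
      · exact absurd (hga.symm.trans h.1) D.ne
    rw [show g = ⟨((⟨g, D.mem hga hgb⟩ : ↥(stabilizer G a ⊓ stabilizer G b)) : G),
      Or.inl (D.mem hga hgb)⟩ from rfl, hext]
    exact Equiv.Perm.mem_alternatingGroup.1 (e _).2
  -- a swapper with an even image can be corrected to one centralising the pair stabiliser
  have hodd : ∀ g : ↥(setStab G a b), (g : G) • a ≠ a → Equiv.Perm.sign (φ g) ≠ 1 := by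
    intro g hga hs
    obtain ⟨k, hk⟩ := e.surjective ⟨φ g, Equiv.Perm.mem_alternatingGroup.2 hs⟩
    obtain ⟨hga', hgb'⟩ := g.2.resolve_left fun h => hga h.1
    have hki : (k : G)⁻¹ • a = a ∧ (k : G)⁻¹ • b = b :=
      ⟨by rw [inv_smul_eq_iff]; exact k.2.1.symm, by rw [inv_smul_eq_iff]; exact k.2.2.symm⟩
    let j : ↥(setStab G a b) := g * (⟨k, Or.inl k.2⟩ : ↥(setStab G a b))⁻¹
    have hj : φ j = 1 := by
      rw [map_mul, map_inv, hext, hk, mul_inv_cancel]
    have hja : (j : G) • a = b := by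
      show ((g : G) * (k : G)⁻¹) • a = b
      rw [mul_smul, hki.1, hga']
    have hjb : (j : G) • b = a := by
      show ((g : G) * (k : G)⁻¹) • b = a
      rw [mul_smul, hki.2, hgb']
    have hjc : ∀ h : G, h • a = a → h • b = b → Commute (j : G) h := fun h ha hb =>
      hcent j hj ⟨h, D.mem ha hb⟩
    refine hA ⟨j, ⟨?_, hja⟩, hjc⟩
    have hjj : ((j : G) * j) • a = a ∧ ((j : G) * j) • b = b :=
      ⟨by rw [mul_smul, hja, hjb], by rw [mul_smul, hjb, hja]⟩
    let q : ↥(stabilizer G a ⊓ stabilizer G b) := ⟨(j : G) * j, D.mem hjj.1 hjj.2⟩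
    have h1 : φ ⟨q, Or.inl q.2⟩ = 1 := by
      rw [show (⟨q, Or.inl q.2⟩ : ↥(setStab G a b)) = j * j from rfl, map_mul, hj, one_mul]
    rw [hext, OneMemClass.coe_eq_one, MulEquiv.map_eq_one_iff] at h1
    exact congrArg Subtype.val h1
  have hiff : ∀ g : ↥(setStab G a b), Equiv.Perm.sign (φ g) = 1 ↔ (g : G) • a = a :=
    fun g => ⟨fun h => by_contra fun hne => hodd g hne h, hH g⟩
  refine ⟨⟨?_, ?_⟩, hiff⟩
  · rw [injective_iff_map_eq_one]
    intro g hg
    have hga := (hiff g).1 (by rw [hg, map_one])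
    have hgb : (g : G) • b = b := by
      rcases g.2 with h | h
      · exact h.2
      · exact absurd (hga.symm.trans h.1) D.ne
    let q : ↥(stabilizer G a ⊓ stabilizer G b) := ⟨g, D.mem hga hgb⟩
    have h1 : φ ⟨q, Or.inl q.2⟩ = 1 := hg
    rw [hext, OneMemClass.coe_eq_one, MulEquiv.map_eq_one_iff] at h1
    exact Subtype.ext (congrArg Subtype.val h1 :)
  · intro σ
    obtain ⟨w, hwa, hwb⟩ := two_apply D.two D.ne D.ne.symm
    let wL : ↥(setStab G a b) := ⟨w, Or.inr ⟨hwa, hwb⟩⟩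
    rcases Int.units_eq_one_or (Equiv.Perm.sign σ) with h | h
    · obtain ⟨k, hk⟩ := e.surjective ⟨σ, Equiv.Perm.mem_alternatingGroup.2 h⟩
      exact ⟨⟨k, Or.inl k.2⟩, by rw [hext, hk]⟩
    · have hw1 : Equiv.Perm.sign (φ wL) ≠ 1 := hodd wL fun e' => D.ne (e'.symm.trans hwa)
      have hw : Equiv.Perm.sign (φ wL) = -1 := (Int.units_eq_one_or _).resolve_left hw1
      obtain ⟨k, hk⟩ := e.surjective ⟨(φ wL)⁻¹ * σ, Equiv.Perm.mem_alternatingGroup.2
        (by rw [map_mul, map_inv, hw, h]; rfl)⟩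
      exact ⟨wL * ⟨k, Or.inl k.2⟩, by rw [map_mul, hext, hk, mul_inv_cancel_left]⟩

end Data

end Cfsg.Agent.Lib.TwoTransA5
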