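import Cfsg.Agent.Lib.TwoTransA5.EvenCases
import Cfsg.Agent.Lib.TwoTransA5.Minimal
import Cfsg.Agent.Lib.RecogThree.M11.Unique
import Cfsg.Agent.Lib.Classif.Order720
import Cfsg.Prelude.Def_Spor_Mathieu

/-!
# Even degree: the Mathieu group on twelve points
-/

set_option autoImplicit false
set_option linter.unusedSectionVars false

namespace Cfsg.Agent.Lib.TwoTransA5

open MulAction
open Cfsg.Agent.Lib.ConstFix25 (fx mul_self_of_orderOf ne_one_of_orderOf)
open Cfsg.Agent.Lib.TwoTransA4 (Base InvH Sw)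

universe u v

variable {G : Type u} {Ω : Type v} [Group G] [MulAction G Ω]

namespace Data

variable {a b : Ω} (D : Data G Ω a b)
include D

/-- A normal subgroup containing an involution of the pair stabiliser contains all of it. -/
theorem pair_le_of_invol {N : Subgroup G} (hNn : N.Normal) {t : G} (ht : InvH a b t)
    (htN : t ∈ N) : stabilizer G a ⊓ stabilizer G b ≤ N := by
  haveI := hNn
  set H := stabilizer G a ⊓ stabilizer G b with hH
  obtain ⟨e⟩ := D.alt
  haveI : Nontrivial ↥H := ⟨⟨⟨t, D.mem ht.2.2.1 ht.2.2.2⟩, 1, fun e => ht.2.1 (congrArg Subtype.val e)⟩⟩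
  haveI : IsSimpleGroup ↥H :=
    IsSimpleGroup.isSimpleGroup_of_surjective e.symm.toMonoidHom e.symm.surjective
  have htop : N.subgroupOf H = ⊤ := by
    refine ((inferInstance : (N.subgroupOf H).Normal).eq_bot_or_eq_top).resolve_left fun h => ?_
    have h1 : (⟨t, D.mem ht.2.2.1 ht.2.2.2⟩ : ↥H) ∈ N.subgroupOf H := htN
    rw [h, Subgroup.mem_bot] at h1
    exact ht.2.1 (congrArg Subtype.val h1)
  exact Subgroup.subgroupOf_eq_top.1 htop

theorem iso_eleven [Finite G] [Finite Ω] (hnr : NoRegular G Ω) {t : G} (ht : InvH a b t)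
    (heven : Even (Nat.card Ω)) : Nat.card Ω = 12 ∧ Cfsg.Spor.IsoM11 G := by
  haveI := D.faithful
  obtain ⟨-, hall, -, hn⟩ := D.even_cases ht heven
  refine ⟨hn, ?_⟩
  obtain ⟨N, hNn, hs, hnc, hmem, -, -, htr⟩ :=
    exists_simple D.two D.ne hnr fun u v hu hv => (hall u hu).symm.trans (hall v hv)
  have hG : Nat.card G = 7920 := by rw [D.card_group, hn]
  have hHN := D.pair_le_of_invol hNn ht (hmem t ht.orderOf)
  have h60 : 60 ∣ Nat.card ↥(stabilizer ↥N a) := by
    rw [← D.card_H, ← Nat.card_congr (Subgroup.subgroupOfEquivOfLe hHN).toEquiv]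
    exact Subgroup.card_dvd_of_le fun g hg => hg.1
  have hNcard : Nat.card N = 12 * Nat.card ↥(stabilizer ↥N a) := by
    rw [Cfsg.Agent.Lib.Perm.Basic.card_eq_card_mul_card_stabilizer (G := ↥N) a, hn]
  obtain ⟨i, hi⟩ := h60
  have hdvd : Nat.card N ∣ 7920 := hG ▸ N.card_subgroup_dvd_card
  rw [hi] at hNcard
  have hi11 : i ∣ 11 := by
    rw [hNcard, show 12 * (60 * i) = 720 * i by ring, show 7920 = 720 * 11 by norm_num] at hdvd
    exact Nat.dvd_of_mul_dvd_mul_left (by norm_num) hdvd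
  have hi11' : i = 11 := by
    rcases (Nat.dvd_prime (by norm_num)).1 hi11 with rfl | rfl
    · exfalso
      haveI := hs
      exact Cfsg.Agent.Lib.Classif.Order720.card_ne_720 hnc (by rw [hNcard])
    · rfl
  have hNtop : N = ⊤ := Subgroup.eq_top_of_card_eq N (by rw [hNcard, hG, hi11'])
  haveI : IsSimpleGroup G := by
    haveI := hs
    haveI : Nontrivial G := ⟨⟨t, 1, ht.2.1⟩⟩
    let e : ↥N ≃* G := (MulEquiv.subgroupCongr hNtop).trans Subgroup.topEquiv
    exact IsSimpleGroup.isSimpleGroup_of_surjective e.toMonoidHom e.surjective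
  exact Cfsg.Agent.Lib.RecogThree.M11.Unique.equiv_M11 hG

end Data

end Cfsg.Agent.Lib.TwoTransA5
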